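import Cfsg.Prelude.Def_Involutions
import Cfsg.Agent.Lib.Involution.Dihedral
import Cfsg.Agent.Lib.Involution.ZStar.Main
import Cfsg.Agent.Lib.Involution.ZStar.Corollaries
import Cfsg.Agent.Lib.Perm.Partition.SemiBasic
import Cfsg.Agent.Lib.PGroup.FixedTerms.Nilpotent

/-!
# A doubly transitive simple group of odd degree with a nilpotent transitive normal subgroup of the stabiliser

The involutions `z` central among the 2-elements fixing a point fix only that point, two of them with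
different fixed points have product of odd order, and equally many of them exchange any two points.
-/

set_option autoImplicit false
set_option linter.style.haveILetI false

open Cfsg

namespace CfsgLib.RankOne.StrongSplit

open MulAction
open CfsgLib.Involution CfsgLib.Involution.Dihedral

universe u v

variable {G : Type u} {Ω : Type v} [Group G] [MulAction G Ω]

/-- A 2-element. -/
def IsTwo (g : G) : Prop := ∃ k : ℕ, g ^ 2 ^ k = 1

/-- An involution fixing `p` and commuting with every 2-element fixing `p`. -/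
def IsC (z : G) (p : Ω) : Prop :=
  z ≠ 1 ∧ z * z = 1 ∧ z • p = p ∧ ∀ g : G, IsTwo g → g • p = p → g * z = z * g

/-- The hypotheses. -/
structure Config (G : Type u) {Ω : Type v} [Group G] [MulAction G Ω] (a : Ω) (U : Subgroup G) : Prop where
  faithful : FaithfulSMul G Ω
  trans : IsMultiplyPretransitive G Ω 2
  odd : Odd (Nat.card Ω)
  ne : ∃ b : Ω, b ≠ a
  le : U ≤ stabilizer G a
  norm : ∀ h ∈ stabilizer G a, ∀ x ∈ U, h * x * h⁻¹ ∈ U
  nil : Group.IsNilpotent U
  utrans : ∀ p q : Ω, p ≠ a → q ≠ a → ∃ x ∈ U, x • p = q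
  two : ∀ g : G, g • a = a → IsTwo g → g ∈ U
  simple : IsSimpleGroup G

theorem isTwo_conj {g : G} (h : IsTwo g) (x : G) : IsTwo (x * g * x⁻¹) := by
  obtain ⟨k, hk⟩ := h
  exact ⟨k, by rw [_root_.conj_pow, hk, mul_one, mul_inv_cancel]⟩

theorem isTwo_of_sq {g : G} (h : g * g = 1) : IsTwo g := ⟨1, by rw [pow_one, pow_two, h]⟩

theorem isTwo_one : IsTwo (1 : G) := isTwo_of_sq (one_mul 1)

theorem isTwo_inv {g : G} (h : IsTwo g) : IsTwo g⁻¹ := by
  obtain ⟨k, hk⟩ := h
  exact ⟨k, by rw [inv_pow, hk, inv_one]⟩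

theorem IsC.orderOf_eq {z : G} {p : Ω} (h : IsC z p) : orderOf z = 2 :=
  orderOf_eq_prime (by rw [pow_two]; exact h.2.1) h.1

theorem IsC.conj {z : G} {p : Ω} (h : IsC z p) (g : G) : IsC (g * z * g⁻¹) (g • p) := by
  obtain ⟨h1, h2, h3, h4⟩ := h
  refine ⟨fun e => h1 (conj_eq_one_iff.mp e), by rw [conj_mul, h2, mul_one, mul_inv_cancel],
    by rw [mul_smul, mul_smul, inv_smul_smul, h3], fun x hx hxp => ?_⟩
  have hx2 : IsTwo (g⁻¹ * x * g) := by simpa using isTwo_conj hx g⁻¹
  have hc := h4 _ hx2 (by rw [mul_smul, mul_smul, hxp, inv_smul_smul])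
  calc x * (g * z * g⁻¹) = g * (g⁻¹ * x * g * z) * g⁻¹ := by group
    _ = g * z * g⁻¹ * x := by rw [hc]; group

/-- An even reflection is conjugate to the reflecting involution. -/
theorem IsC.reflect {x r : G} {p : Ω} (hx : IsC x p) (hr : x * r * x⁻¹ = r⁻¹) (j : ℤ) :
    ∃ c : Ω, IsC (x * r ^ (2 * j)) c := by
  have h1 := Dihedral.zpow_mul_left hr (-j)
  rw [neg_neg] at h1
  have e : r ^ (-j) * x * (r ^ (-j))⁻¹ = x * r ^ (2 * j) := by
    rw [h1, ← zpow_neg, neg_neg, mul_assoc, ← zpow_add, two_mul]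
  exact ⟨r ^ (-j) • p, e ▸ hx.conj (r ^ (-j))⟩

variable [Finite G] {a : Ω} {U : Subgroup G} (hC : Config G a U)
include hC

theorem finite_omega : Finite Ω := Nat.finite_of_card_ne_zero (by
  have := hC.odd; intro h; rw [h] at this; simp at this)

theorem exists_smul_pair {p q r s : Ω} (hpq : p ≠ q) (hrs : r ≠ s) :
    ∃ g : G, g • p = r ∧ g • q = s := (is_two_pretransitive_iff.mp hC.trans) hpq hrs

theorem exists_smul (p q : Ω) : ∃ g : G, g • p = q := by
  obtain ⟨b, hb⟩ := hC.ne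
  obtain ⟨r, hr⟩ : ∃ r, p ≠ r := by
    by_cases h : p = a
    · exact ⟨b, h ▸ hb.symm⟩
    · exact ⟨a, h⟩
  obtain ⟨s, hs⟩ : ∃ s, q ≠ s := by
    by_cases h : q = a
    · exact ⟨b, h ▸ hb.symm⟩
    · exact ⟨a, h⟩
  obtain ⟨g, hg, -⟩ := exists_smul_pair hC hr hs
  exact ⟨g, hg⟩

theorem isTwo_mul {g h : G} {p : Ω} (hg : IsTwo g) (hh : IsTwo h) (hgp : g • p = p) (hhp : h • p = p) :
    IsTwo (g * h) := by
  obtain ⟨x, hx⟩ := exists_smul hC p a
  haveI := hC.nil
  haveI : Fact (Nat.Prime 2) := ⟨Nat.prime_two⟩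
  have hmem : ∀ {y : G}, IsTwo y → y • p = p → x * y * x⁻¹ ∈ U := fun {y} hy hyp =>
    hC.two _ (by rw [mul_smul, mul_smul, ← hx, inv_smul_smul, hyp]) (isTwo_conj hy x)
  let T : Sylow 2 U := Classical.arbitrary _
  haveI hTn : (T : Subgroup U).Normal :=
    T.normal_of_normalizerCondition Group.normalizerCondition_of_isNilpotent
  haveI := Sylow.unique_of_normal T hTn
  have hT : ∀ {y : G} (hy : y ∈ U), IsTwo y → (⟨y, hy⟩ : U) ∈ (T : Subgroup U) := by
    intro y hy ⟨k, hk⟩
    obtain ⟨i, -, hi⟩ := (Nat.dvd_prime_pow Nat.prime_two).1 (orderOf_dvd_of_pow_eq_one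
      (Subtype.ext hk : (⟨y, hy⟩ : U) ^ 2 ^ k = 1))
    obtain ⟨T', hT'⟩ := (IsPGroup.of_card (n := i) (p := 2)
      (G := Subgroup.zpowers (⟨y, hy⟩ : U)) (by rw [Nat.card_zpowers, hi])).exists_le_sylow
    have := hT' (Subgroup.mem_zpowers _)
    rwa [Subsingleton.elim T' T] at this
  obtain ⟨k, hk⟩ := T.isPGroup' ⟨_, mul_mem (hT (hmem hg hgp) (isTwo_conj hg x))
    (hT (hmem hh hhp) (isTwo_conj hh x))⟩
  have hk' : (x * g * x⁻¹ * (x * h * x⁻¹)) ^ 2 ^ k = 1 :=
    congrArg (fun y : (T : Subgroup U) => ((y : U) : G)) hk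
  rw [conj_mul, _root_.conj_pow, conj_eq_one_iff] at hk'
  exact ⟨k, hk'⟩

theorem even_U : 2 ∣ Nat.card U := by
  haveI := finite_omega hC
  obtain ⟨b, hb⟩ := hC.ne
  have hcard : Nat.card {p : Ω // p ≠ a} ∣ Nat.card U := by
    letI : MulAction U {p : Ω // p ≠ a} :=
      { smul := fun x p => ⟨(x : G) • p.1, fun h => p.2 (by
          have hx : (x : G) • a = a := hC.le x.2
          exact smul_left_cancel (x : G) (h.trans hx.symm))⟩
        one_smul := fun p => Subtype.ext (one_smul G p.1)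
        mul_smul := fun x y p => Subtype.ext (mul_smul (x : G) y p.1) }
    haveI : IsPretransitive U {p : Ω // p ≠ a} := ⟨fun p q => by
      obtain ⟨x, hx, e⟩ := hC.utrans p.1 q.1 p.2 q.2
      exact ⟨⟨x, hx⟩, Subtype.ext e⟩⟩
    rw [← MulAction.index_stabilizer_of_transitive U (⟨b, hb⟩ : {p : Ω // p ≠ a})]
    exact Subgroup.index_dvd_card _
  refine Dvd.dvd.trans ?_ hcard
  classical
  haveI := Fintype.ofFinite Ω
  have h1 : Nat.card {p : Ω // p ≠ a} + 1 = Nat.card Ω := by
    rw [Nat.card_eq_fintype_card, Nat.card_eq_fintype_card, Fintype.card_subtype_compl,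
      Fintype.card_subtype_eq]
    have : 0 < Fintype.card Ω := Fintype.card_pos_iff.mpr ⟨a⟩
    omega
  obtain ⟨m, hm⟩ := hC.odd
  exact ⟨m, by omega⟩

theorem exists_isC (p : Ω) : ∃ z : G, IsC z p := by
  obtain ⟨x, hx⟩ := exists_smul hC a p
  suffices h : ∃ z : G, IsC z a by
    obtain ⟨z, hz⟩ := h
    exact ⟨_, hx ▸ hz.conj x⟩
  haveI := hC.nil
  haveI : Fact (Nat.Prime 2) := ⟨Nat.prime_two⟩
  let T : Sylow 2 U := Classical.arbitrary _
  haveI hTn : (T : Subgroup U).Normal :=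
    T.normal_of_normalizerCondition Group.normalizerCondition_of_isNilpotent
  haveI := Sylow.unique_of_normal T hTn
  haveI : Nontrivial (T : Subgroup U) := by
    rw [Subgroup.nontrivial_iff_ne_bot]
    exact T.ne_bot_of_dvd_card (even_U hC)
  obtain ⟨n, hn, hn'⟩ : ∃ n, 0 < n ∧ Nat.card (Subgroup.center (T : Subgroup U)) = 2 ^ n := by
    obtain ⟨n, hn⟩ := (T.isPGroup'.to_subgroup (Subgroup.center (T : Subgroup U))).exists_card_eq
    refine ⟨n, Nat.pos_of_ne_zero fun h0 => ?_, hn⟩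
    haveI := T.isPGroup'.center_nontrivial
    have := Finite.one_lt_card (α := Subgroup.center (T : Subgroup U))
    rw [hn, h0] at this
    exact absurd this (by simp)
  obtain ⟨z, hz⟩ := exists_prime_orderOf_dvd_card' (G := Subgroup.center (T : Subgroup U)) 2
    (by rw [hn']; exact dvd_pow_self 2 hn.ne')
  have hzz : (((z : (T : Subgroup U)) : U) : G) * ((z : (T : Subgroup U)) : U) = 1 :=
    congrArg (fun y : Subgroup.center (T : Subgroup U) => (((y : (T : Subgroup U)) : U) : G))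
      (show z * z = 1 by rw [← pow_two]; exact orderOf_dvd_iff_pow_eq_one.mp hz.dvd)
  refine ⟨((z : (T : Subgroup U)) : U), fun e => ?_, hzz, hC.le (SetLike.coe_mem _), fun g hg hga => ?_⟩
  · rw [show z = 1 from Subtype.ext (Subtype.ext (Subtype.ext e)), orderOf_one] at hz
    exact absurd hz (by norm_num)
  · have hgU := hC.two g hga hg
    have hgT : (⟨g, hgU⟩ : U) ∈ (T : Subgroup U) := by
      obtain ⟨k, hk⟩ := hg
      obtain ⟨i, -, hi⟩ := (Nat.dvd_prime_pow Nat.prime_two).1 (orderOf_dvd_of_pow_eq_one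
        (Subtype.ext hk : (⟨g, hgU⟩ : U) ^ 2 ^ k = 1))
      obtain ⟨T', hT'⟩ := (IsPGroup.of_card (n := i) (p := 2)
        (G := Subgroup.zpowers (⟨g, hgU⟩ : U)) (by rw [Nat.card_zpowers, hi])).exists_le_sylow
      have := hT' (Subgroup.mem_zpowers _)
      rwa [Subsingleton.elim T' T] at this
    exact congrArg (fun y : (T : Subgroup U) => ((y : U) : G))
      (Subgroup.mem_center_iff.mp z.2 ⟨_, hgT⟩)

theorem C_mem {z : G} (hz : IsC z a) : z ∈ U := hC.two z hz.2.2.1 (isTwo_of_sq hz.2.1)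

theorem C_central {z : G} (hz : IsC z a) {x : G} (hx : x ∈ U) : x * z = z * x := by
  haveI := hC.nil
  obtain ⟨i, j, he, ⟨k, hk⟩, hj⟩ := CfsgLib.PGroup.FixedTerms.exists_parts Nat.prime_two x
  have h1 : x ^ i * z = z * x ^ i := hz.2.2.2 _ ⟨k, hk⟩ (hC.le (zpow_mem hx i))
  have h2 : x ^ j * z = z * x ^ j := congrArg Subtype.val
    (CfsgLib.PGroup.FixedTerms.commute_of_coprime' (L := U) hC.nil
      (a := ⟨x ^ j, zpow_mem hx j⟩) (b := ⟨z, C_mem hC hz⟩) (by
        rw [Subgroup.orderOf_mk, Subgroup.orderOf_mk, hz.orderOf_eq]; exact hj))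
  rw [he, mul_assoc, h2, ← mul_assoc, h1, mul_assoc]

theorem C_fix {z : G} {p c : Ω} (hz : IsC z p) (hc : z • c = c) : c = p := by
  obtain ⟨x, hx⟩ := exists_smul hC p a
  have hz' := hz.conj x
  rw [hx] at hz'
  by_contra hne
  have hc' : (x * z * x⁻¹) • x • c = x • c := by rw [mul_smul, mul_smul, inv_smul_smul, hc]
  have hxc : x • c ≠ a := fun h => hne (smul_left_cancel x (h.trans hx.symm))
  refine hz'.1 (@eq_of_smul_eq_smul G Ω _ hC.faithful _ _ fun q => ?_)
  rw [one_smul]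
  by_cases hq : q = a
  · rw [hq]; exact hz'.2.2.1
  obtain ⟨y, hy, hyq⟩ := hC.utrans (x • c) q hxc hq
  rw [← hyq, smul_smul _ y, ← C_central hC hz' hy, mul_smul, hc']

/-- An involution of the class fixing a point is central there. -/
theorem C_at {z : G} {p c : Ω} (hz : IsC z p) (hc : z • c = c) : IsC z c := C_fix hC hz hc ▸ hz

theorem C_commute {z z' : G} {p : Ω} (hz : IsC z p) (hz' : IsC z' p) : z * z' = z' * z :=
  hz'.2.2.2 z (isTwo_of_sq hz.2.1) hz.2.2.1

theorem C_mul {z z' : G} {p : Ω} (hz : IsC z p) (hz' : IsC z' p) (hne : z ≠ z') : IsC (z * z') p := by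
  have hcm := C_commute hC hz hz'
  refine ⟨fun e => hne ?_, ?_, by rw [mul_smul, hz'.2.2.1, hz.2.2.1], fun g hg hgp => ?_⟩
  · calc z = z * (z' * z') := by rw [hz'.2.1, mul_one]
      _ = z' := by rw [← mul_assoc, e, one_mul]
  · calc z * z' * (z * z') = z * (z' * z) * z' := by group
      _ = z * z * (z' * z') := by rw [← hcm]; group
      _ = 1 := by rw [hz.2.1, hz'.2.1, one_mul]
  · rw [← mul_assoc, hz.2.2.2 g hg hgp, mul_assoc, hz'.2.2.2 g hg hgp, mul_assoc]

/-- Two of the involutions with different fixed points have product of odd order. -/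
theorem odd_mul {z z' : G} {p p' : Ω} (hz : IsC z p) (hz' : IsC z' p') (hne : p ≠ p') :
    Odd (orderOf (z * z')) := by
  rw [← Nat.not_even_iff_odd]
  intro hev
  have hx := hz.orderOf_eq
  have hy := hz'.orderOf_eq
  set m := orderOf (z * z') / 2 with hm
  set w := (z * z') ^ m with hw
  have hw2 : orderOf w = 2 := half_orderOf hev
  have hwz : Commute w z := half_commute_left hx hy hev
  have hwz' : Commute w z' := half_commute_right hx hy hev
  have hwp : w • p = p := C_fix hC hz (by rw [smul_smul, ← hwz.eq, mul_smul, hz.2.2.1])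
  have hwp' : w • p' = p' := C_fix hC hz' (by rw [smul_smul, ← hwz'.eq, mul_smul, hz'.2.2.1])
  -- the reflection `z w` lies in the class
  have hzw : ∃ c : Ω, IsC (z * w) c := by
    have hinv := conj_mul_left hx hy
    rcases Nat.even_or_odd' m with ⟨j, hj | hj⟩
    · obtain ⟨c, hc⟩ := hz.reflect hinv (j : ℤ)
      refine ⟨c, ?_⟩
      rwa [hw, hj, ← zpow_natCast, Nat.cast_mul, Nat.cast_ofNat]
    · have h2 : z' * (z * z') * z'⁻¹ = (z * z')⁻¹ := by
        rw [mul_inv_rev, Dihedral.inv_eq hx, Dihedral.inv_eq hy]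
        calc z' * (z * z') * z' = z' * z * (z' * z') := by group
          _ = z' * z := by rw [hz'.2.1, mul_one]
      obtain ⟨c, hc⟩ := hz'.reflect h2 (j : ℤ)
      refine ⟨c, ?_⟩
      convert hc using 1
      rw [hw, hj, pow_succ', ← mul_assoc, ← mul_assoc, hz.2.1, one_mul, ← zpow_natCast,
        Nat.cast_mul, Nat.cast_ofNat]
  obtain ⟨c, hc⟩ := hzw
  have hcp : IsC (z * w) p := C_at hC hc (by rw [mul_smul, hwp, hz.2.2.1])
  have hwC : IsC (z * (z * w)) p := C_mul hC hz hcp fun e => (Dihedral.ne_one hw2)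
    (left_eq_mul.mp e)
  rw [← mul_assoc, hz.2.1, one_mul] at hwC
  exact hne (C_fix hC hwC hwp').symm

/-- The involutions of the class exchanging two points. -/
def swaps (G : Type u) {Ω : Type v} [Group G] [MulAction G Ω] (p q : Ω) : Set G :=
  {i | (∃ c : Ω, IsC i c) ∧ i • p = q}

theorem swaps_symm {p q : Ω} {i : G} (hi : i ∈ swaps G p q) : i • q = p := by
  obtain ⟨⟨c, hc⟩, hp⟩ := hi
  rw [← hp, smul_smul, hc.2.1, one_smul]

theorem existsUnique_swap {p q : Ω} (hpq : p ≠ q) {v s : G} (hv : IsC v p) (hs : IsC s q) :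
    ∃! i : G, i ∈ swaps G p q ∧ i * v * i⁻¹ = s := by
  have hx := hv.orderOf_eq
  have hy := hs.orderOf_eq
  have hodd := odd_mul hC hv hs hpq
  obtain ⟨d, ⟨k, hk⟩, he⟩ := exists_conj_of_odd hx hy hodd
  simp only at hk
  have hinv := conj_mul_left hx hy
  obtain ⟨m, hm⟩ := hodd
  have hdv : ∃ c : Ω, IsC (d * v) c := by
    obtain ⟨c, hc⟩ := hv.reflect hinv (-(k * (m + 1)))
    refine ⟨c, ?_⟩
    convert hc using 1
    have h1 := zpow_mul_left hinv k
    rw [← hk, h1]
    congr 1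
    rw [show (2 : ℤ) * -(k * (m + 1)) = -k + (orderOf (v * s) : ℤ) * -k by rw [hm]; push_cast; ring,
      zpow_add, zpow_mul, zpow_natCast, pow_orderOf_eq_one, one_zpow, mul_one]
  have hdp : (d * v) • p = q := by
    rw [mul_smul, hv.2.2.1]
    refine C_fix hC hs ?_
    rw [← he, smul_smul, show d * v * d⁻¹ * d = d * v by group, mul_smul, hv.2.2.1]
  refine ⟨d * v, ⟨⟨hdv, hdp⟩, by
    rw [show d * v * v * (d * v)⁻¹ = d * v * d⁻¹ by group, he]⟩, ?_⟩
  rintro i ⟨⟨⟨c, hc⟩, hip⟩, hiv⟩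
  have hcp : p ≠ c := fun e => hpq (by rw [← hip, e, hc.2.2.1])
  obtain ⟨c', hc'⟩ := hdv
  have hc'p : p ≠ c' := fun e => hpq (by rw [← hdp, e, hc'.2.2.1])
  have hsq : ∀ {j : G}, j * j = 1 → j * v * j⁻¹ = s → (v * j) ^ 2 = v * s := fun {j} hj hjv => by
    rw [pow_two, ← hjv, inv_eq_of_mul_eq_one_right hj]; group
  obtain ⟨r, hr⟩ := odd_mul hC hv hc hcp
  obtain ⟨r', hr'⟩ := odd_mul hC hv hc' hc'p
  have h1 : (v * i) ^ 2 = v * s := hsq hc.2.1 hiv
  have h2 : (v * (d * v)) ^ 2 = v * s := hsq hc'.2.1 (by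
    rw [show d * v * v * (d * v)⁻¹ = d * v * d⁻¹ by group, he])
  have e : v * i = v * (d * v) := by
    have ho : r = r' := by
      have a1 : orderOf ((v * i) ^ 2) = orderOf (v * i) := by
        rw [orderOf_pow' _ two_ne_zero, hr, show Nat.gcd (2 * r + 1) 2 = 1 by simp, Nat.div_one]
      have a2 : orderOf ((v * (d * v)) ^ 2) = orderOf (v * (d * v)) := by
        rw [orderOf_pow' _ two_ne_zero, hr', show Nat.gcd (2 * r' + 1) 2 = 1 by simp, Nat.div_one]
      rw [h1] at a1; rw [h2] at a2; omega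
    calc v * i = (v * i) ^ (2 * (r + 1)) := by
          rw [show 2 * (r + 1) = orderOf (v * i) + 1 by omega, pow_succ, pow_orderOf_eq_one, one_mul]
      _ = (v * (d * v)) ^ (2 * (r + 1)) := by rw [pow_mul, h1, pow_mul, h2]
      _ = v * (d * v) := by
          rw [show 2 * (r + 1) = orderOf (v * (d * v)) + 1 by omega, pow_succ, pow_orderOf_eq_one,
            one_mul]
  exact mul_left_cancel e

/-- Equally many of the involutions exchange two points as are centred at a point. -/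
theorem card_swaps {p q : Ω} (hpq : p ≠ q) :
    Nat.card (swaps G p q) = Nat.card {z : G // IsC z q} := by
  obtain ⟨v, hv⟩ := exists_isC hC p
  have hmem : ∀ i : swaps G p q, IsC ((i : G) * v * (i : G)⁻¹) q := fun i => by
    have h := hv.conj (i : G)
    have hi : (i : G) • p = q := i.2.2
    rw [hi] at h
    exact h
  refine Nat.card_eq_of_bijective (fun i => ⟨(i : G) * v * (i : G)⁻¹, hmem i⟩) ⟨?_, ?_⟩
  · intro i j e
    obtain ⟨k, -, hu⟩ := existsUnique_swap hC hpq hv (hmem i)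
    exact Subtype.ext ((hu i ⟨i.2, rfl⟩).trans
      (hu j ⟨j.2, (congrArg Subtype.val e).symm⟩).symm)
  · intro s
    obtain ⟨k, ⟨hk, hks⟩, -⟩ := existsUnique_swap hC hpq hv s.2
    exact ⟨⟨k, hk⟩, Subtype.ext hks⟩

theorem card_C_eq (p : Ω) : Nat.card {z : G // IsC z p} = Nat.card {z : G // IsC z a} := by
  obtain ⟨x, hx⟩ := exists_smul hC p a
  refine Nat.card_congr (Equiv.subtypeEquiv (MulAut.conj x).toEquiv fun z => ⟨fun h => ?_, fun h => ?_⟩)
  · have := h.conj x
    rwa [hx] at this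
  · have h' : IsC (x * z * x⁻¹) a := h
    have := h'.conj x⁻¹
    rw [← hx, inv_smul_smul] at this
    simpa [mul_assoc] using this

/-- The involutions centred at a point together with one. -/
def T (p : Ω) : Subgroup G where
  carrier := {z | z = 1 ∨ IsC z p}
  one_mem' := Or.inl rfl
  mul_mem' {x y} hx hy := by
    rcases hx with rfl | hx
    · simpa using hy
    rcases hy with rfl | hy
    · simpa using Or.inr hx
    by_cases e : x = y
    · subst e; exact Or.inl hx.2.1
    · exact Or.inr (C_mul hC hx hy e)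
  inv_mem' {x} hx := by
    rcases hx with rfl | hx
    · exact Or.inl inv_one
    · rw [inv_eq_of_mul_eq_one_right hx.2.1]; exact Or.inr hx

theorem mem_T {p : Ω} {z : G} : z ∈ T hC p ↔ z = 1 ∨ IsC z p := Iff.rfl

theorem card_T (p : Ω) : Nat.card (T hC p) = Nat.card {z : G // IsC z a} + 1 := by
  classical
  rw [← card_C_eq hC p]
  haveI := Fintype.ofFinite (T hC p)
  have h1 : Nat.card {z : G // IsC z p} = Nat.card {z : T hC p // z ≠ 1} :=
    Nat.card_congr
      { toFun := fun z => ⟨⟨z.1, Or.inr z.2⟩, fun e => z.2.1 (congrArg Subtype.val e)⟩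
        invFun := fun z => ⟨z.1.1, z.1.2.resolve_left fun e => z.2 (Subtype.ext e)⟩
        left_inv := fun z => rfl
        right_inv := fun z => rfl }
  rw [h1, Nat.card_eq_fintype_card, Nat.card_eq_fintype_card, Fintype.card_subtype_compl,
    Fintype.card_subtype_eq]
  have : 0 < Fintype.card (T hC p) := Fintype.card_pos
  omega

theorem odd_card_C : Odd (Nat.card {z : G // IsC z a}) := by
  haveI : Fact (Nat.Prime 2) := ⟨Nat.prime_two⟩
  have hp : IsPGroup 2 (T hC a) := fun z => ⟨1, by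
    rw [pow_one, pow_two]
    rcases z.2 with e | e
    · exact Subtype.ext (by simp [e])
    · exact Subtype.ext e.2.1⟩
  obtain ⟨n, hn⟩ := hp.exists_card_eq
  rw [card_T hC] at hn
  obtain ⟨z, hz⟩ := exists_isC hC a
  have : 0 < Nat.card {z : G // IsC z a} := Finite.card_pos_iff.mpr ⟨⟨z, hz⟩⟩
  rcases n with _ | n
  · simp at hn; omega
  · exact ⟨2 ^ n - 1, by have := Nat.one_le_two_pow (n := n); rw [pow_succ] at hn; omega⟩

theorem odd_swaps {p q : Ω} (hpq : p ≠ q) : Odd (Nat.card (swaps G p q)) := by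
  rw [card_swaps hC hpq, card_C_eq hC q]
  exact odd_card_C hC

/-- There are at least three of the involutions at each point. -/
theorem three_le_card_C : 3 ≤ Nat.card {z : G // IsC z a} := by
  haveI := hC.simple
  obtain ⟨z, hz⟩ := exists_isC hC a
  by_contra hlt
  have hone : ∀ w, IsC w a → w = z := fun w hw => by
    have h1 : Nat.card {z : G // IsC z a} = 1 := by
      obtain ⟨m, hm⟩ := odd_card_C hC
      omega
    haveI := (Nat.card_eq_one_iff_unique.mp h1).1
    exact congrArg Subtype.val (Subsingleton.elim (⟨w, hw⟩ : {z : G // IsC z a}) ⟨z, hz⟩)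
  have hz2 := hz.orderOf_eq
  have hiso : IsIsolatedInvolution z := ⟨hz2, fun g hg => by
    by_contra hne
    by_cases hga : g • a = a
    · exact hne (hone _ (hga ▸ hz.conj g))
    · have hodd := odd_mul hC hz (hz.conj g) (Ne.symm hga)
      have h2 : (z * (g * z * g⁻¹)) ^ 2 = 1 := by
        rw [pow_two]
        calc z * (g * z * g⁻¹) * (z * (g * z * g⁻¹)) = z * ((g * z * g⁻¹) * z) * (g * z * g⁻¹) := by group
          _ = z * z * ((g * z * g⁻¹) * (g * z * g⁻¹)) := by rw [← hg.eq]; group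
          _ = 1 := by rw [hz.2.1, (hz.conj g).2.1, one_mul]
      have h1 : orderOf (z * (g * z * g⁻¹)) = 1 := by
        rcases (Nat.dvd_prime Nat.prime_two).mp (orderOf_dvd_of_pow_eq_one h2) with e | e
        · exact e
        · rw [e] at hodd; exact absurd hodd (by decide)
      rw [orderOf_eq_one_iff] at h1
      exact hne ((eq_inv_of_mul_eq_one_right h1).trans (inv_eq_of_mul_eq_one_right hz.2.1))⟩
  have hO : oddCore G = ⊥ := by
    haveI : (oddCore G).Normal := Subgroup.sSup_normal _ fun _ h => h.1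
    refine (IsSimpleGroup.eq_bot_or_eq_top_of_normal (oddCore G) inferInstance).resolve_right fun h => ?_
    have hc := CfsgLib.Solvable.Cores.coprime_card_pPrimeCore (G := G) 2
    have hG : 2 ∣ Nat.card G := hz2 ▸ orderOf_dvd_natCard z
    change (Nat.card ↥(oddCore G)).Coprime 2 at hc
    rw [h, Subgroup.card_top] at hc
    exact (Nat.Prime.coprime_iff_not_dvd Nat.prime_two).mp hc.symm hG
  obtain ⟨b, hb⟩ := hC.ne
  obtain ⟨g, hg⟩ := exists_smul hC a b
  obtain ⟨o, ho, c, hc, hgo⟩ := CfsgLib.Involution.ZStar.exists_oddCore_mul_centralizer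
    (CfsgLib.Involution.ZStar.starCentral G) hiso g
  rw [hO, Subgroup.mem_bot] at ho
  subst ho
  rw [one_mul] at hgo
  subst hgo
  refine hb ?_
  rw [← hg]
  exact C_fix hC hz (by rw [smul_smul, ← Subgroup.mem_centralizer_singleton_iff.mp hc, mul_smul, hz.2.2.1])

end CfsgLib.RankOne.StrongSplit
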