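import Cfsg.Agent.Lib.RankOne.StrongSplit.Fixed
import Cfsg.Agent.Lib.RankOne.Split.Bender

/-!
# Lines, and the stabiliser part is a 2-group

The fixed points of the 2-elements fixing two points form a line. The setwise stabiliser of a line acts
on it with a strongly embedded point stabiliser, so a line has `2 ^ κ + 1` points; hence `U` is a
2-group, an involution fixing two points fixes exactly `|T| + 1` and there are `|T| ^ 3 + 1` points.
-/

set_option autoImplicit false
set_option linter.style.haveILetI false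

open Cfsg

namespace CfsgLib.RankOne.StrongSplit

open MulAction

universe u v

variable {G : Type u} {Ω : Type v} [Group G] [MulAction G Ω] [Finite G] {a : Ω} {U : Subgroup G}
  (hC : Config G a U)
include hC

/-- The common fixed points of the 2-elements fixing two points. -/
def line (p q : Ω) : Set Ω := {c | ∀ g ∈ R hC p q, g • c = c}

theorem left_mem_line (p q : Ω) : p ∈ line hC p q := fun _ hg => hg.2.1

theorem right_mem_line (p q : Ω) : q ∈ line hC p q := fun _ hg => hg.2.2

theorem conj_mem_R {p q : Ω} {x : G} (hx : x ∈ R hC p q) (g : G) :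
    g * x * g⁻¹ ∈ R hC (g • p) (g • q) :=
  ⟨isTwo_conj hx.1 g, by rw [mul_smul, mul_smul, inv_smul_smul, hx.2.1],
    by rw [mul_smul, mul_smul, inv_smul_smul, hx.2.2]⟩

theorem card_R_eq {p q r s : Ω} (hpq : p ≠ q) (hrs : r ≠ s) :
    Nat.card (R hC p q) = Nat.card (R hC r s) := by
  obtain ⟨g, hg1, hg2⟩ := exists_smul_pair hC hpq hrs
  refine Nat.card_congr (Equiv.subtypeEquiv (MulAut.conj g).toEquiv fun x => ⟨fun h => ?_, fun h => ?_⟩)
  · have := conj_mem_R hC h g
    rwa [hg1, hg2] at this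
  · have h' : g * x * g⁻¹ ∈ R hC r s := h
    have := conj_mem_R hC h' g⁻¹
    rw [← hg1, ← hg2, inv_smul_smul, inv_smul_smul] at this
    simpa [mul_assoc] using this

theorem R_eq_of_mem_line {p q c d : Ω} (hpq : p ≠ q) (hc : c ∈ line hC p q) (hd : d ∈ line hC p q)
    (hcd : c ≠ d) : R hC c d = R hC p q :=
  (Subgroup.eq_of_le_of_card_ge (H := R hC p q) (K := R hC c d) (fun g hg => ⟨hg.1, hc g hg, hd g hg⟩)
    (card_R_eq hC hcd hpq).le).symm

/-- An element centralising the 2-elements of a line preserves it. -/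
theorem smul_mem_line {p q c : Ω} {g : G} (hg : ∀ x ∈ R hC p q, g * x = x * g)
    (hc : c ∈ line hC p q) : g • c ∈ line hC p q := fun x hx => by
  rw [smul_smul, ← hg x hx, mul_smul, hc x hx]

/-- The setwise stabiliser of a line. -/
def lineStab (p q : Ω) : Subgroup G where
  carrier := {g | ∀ c, g • c ∈ line hC p q ↔ c ∈ line hC p q}
  one_mem' c := by rw [one_smul]
  mul_mem' {g h} hg hh c := by rw [mul_smul]; exact (hg _).trans (hh c)
  inv_mem' {g} hg c := by rw [← hg (g⁻¹ • c), smul_inv_smul]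

theorem centralize_mem_lineStab {p q : Ω} {g : G} (hg : ∀ x ∈ R hC p q, g * x = x * g) :
    g ∈ lineStab hC p q := fun c => by
  refine ⟨fun h => ?_, smul_mem_line hC hg⟩
  have := smul_mem_line hC (g := g⁻¹) (fun x hx => ((Commute.inv_left (hg x hx) : Commute g⁻¹ x)).eq) h
  rwa [inv_smul_smul] at this

theorem swap_mem_lineStab {p q c d : Ω} (hpq : p ≠ q) (hc : c ∈ line hC p q) (hd : d ∈ line hC p q)
    (hcd : c ≠ d) {i : G} (hi : i ∈ swaps G c d) : i ∈ lineStab hC p q := by
  refine centralize_mem_lineStab hC fun x hx => (swap_commute hC hcd ?_ hi).symm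
  rwa [R_eq_of_mem_line hC hpq hc hd hcd]

theorem C_mem_lineStab {p q c : Ω} (hc : c ∈ line hC p q) {z : G} (hz : IsC z c) :
    z ∈ lineStab hC p q :=
  centralize_mem_lineStab hC fun x hx => (hz.2.2.2 x hx.1 (hc x hx)).symm

/-- A line has a power of two plus one points. -/
theorem card_line (hexp : SplitBender.SetupExists.{u}) {b : Ω} (hb : b ≠ a) :
    ∃ κ : ℕ, (line hC a b).ncard = 2 ^ κ + 1 := by
  haveI := finite_omega hC
  set L := line hC a b with hL
  have haL : a ∈ L := left_mem_line hC a b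
  have hbL : b ∈ L := right_mem_line hC a b
  set N := lineStab hC a b with hN
  let K : Subgroup N :=
    { carrier := {g | ∀ c ∈ L, (g : G) • c = c}
      one_mem' := fun c _ => one_smul G c
      mul_mem' := fun {g h} hg hh c hc => by rw [Subgroup.coe_mul, mul_smul, hh c hc, hg c hc]
      inv_mem' := fun {g} hg c hc => by rw [Subgroup.coe_inv, inv_smul_eq_iff, hg c hc] }
  haveI hKn : K.Normal := ⟨fun g hg h c hc => by
    have h1 : (h : G)⁻¹ • c ∈ L := by
      have := (inv_mem h.2 : (h : G)⁻¹ ∈ N) c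
      exact this.mpr hc
    rw [Subgroup.coe_mul, Subgroup.coe_mul, Subgroup.coe_inv, mul_smul, mul_smul, hg _ h1,
      smul_inv_smul]⟩
  set π := QuotientGroup.mk' K with hπ
  have hπs : Function.Surjective π := QuotientGroup.mk'_surjective K
  set Hs : Subgroup N := stabilizer N a with hHs
  set H : Subgroup (N ⧸ K) := Hs.map π with hH
  have hKH : π.ker ≤ Hs := by
    rw [QuotientGroup.ker_mk']
    exact fun g hg => hg a haL
  have hmem : ∀ g : N, π g ∈ H → (g : G) • a = a := fun g hg => by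
    have h1 : g ∈ (Hs.map π).comap π := hg
    rw [Subgroup.comap_map_eq_self hKH] at h1
    exact h1
  have horb : MulAction.orbit N a = L := by
    ext c
    constructor
    · rintro ⟨g, rfl⟩
      exact (g.2 a).mpr haL
    · intro hc
      by_cases hca : c = a
      · rw [hca]; exact mem_orbit_self a
      obtain ⟨i, hi, -⟩ := exists_swap_fixed hC (Ne.symm hca)
      exact ⟨⟨i, swap_mem_lineStab hC hb.symm haL hc (Ne.symm hca) hi⟩, hi.2⟩
  have hidx : H.index = L.ncard := by
    rw [hH, Subgroup.index_map_eq _ hπs hKH, hHs, MulAction.index_stabilizer, horb]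
  have hkerR : ∀ g : N, π g = 1 ↔ ∀ c ∈ L, (g : G) • c = c := fun g => QuotientGroup.eq_one_iff g
  -- two class involutions at `a`
  obtain ⟨z, w, hz, hw, hzw⟩ : ∃ z w : G, IsC z a ∧ IsC w a ∧ z ≠ w := by
    haveI : Nontrivial {z : G // IsC z a} :=
      Finite.one_lt_card_iff_nontrivial.mp (by have := three_le_card_C hC; omega)
    obtain ⟨z, w, h⟩ := exists_pair_ne {z : G // IsC z a}
    exact ⟨z, w, z.2, w.2, fun e => h (Subtype.ext e)⟩
  let zN : N := ⟨z, C_mem_lineStab hC haL hz⟩
  let wN : N := ⟨w, C_mem_lineStab hC haL hw⟩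
  have hmove : ∀ g : N, IsC (g : G) a → π g ≠ 1 := fun g hg h =>
    hb (C_fix hC hg ((hkerR g).mp h b hbL))
  -- the four-group
  have h4 : SplitBender.HasFour (N ⧸ K) := by
    refine ⟨π zN, π wN, hmove zN hz, hmove wN hw, fun e => ?_, ?_, ?_, ?_⟩
    · refine hmove (zN * wN) (C_mul hC hz hw hzw) ?_
      rw [map_mul, ← e, ← map_mul, show zN * zN = 1 from Subtype.ext hz.2.1, map_one]
    · rw [← map_mul, show zN * zN = 1 from Subtype.ext hz.2.1, map_one]
    · rw [← map_mul, show wN * wN = 1 from Subtype.ext hw.2.1, map_one]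
    · rw [← map_mul, ← map_mul, show zN * wN = wN * zN from Subtype.ext (C_commute hC hz hw)]
  have hcore : H.normalCore = ⊥ := by
    rw [Subgroup.eq_bot_iff_forall]
    intro y hy
    obtain ⟨g, rfl⟩ := hπs y
    refine (hkerR g).mpr fun c hc => ?_
    have hc' : c ∈ MulAction.orbit N a := horb.symm ▸ hc
    obtain ⟨k, rfl⟩ := hc'
    have h2 : π (k⁻¹ * g * k) ∈ H := by
      refine Subgroup.normalCore_le H ?_
      have := (Subgroup.normalCore_normal H).conj_mem (π g) hy (π k⁻¹)
      rwa [← map_inv, ← map_mul, ← map_mul, inv_inv] at this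
    have h1 := hmem _ h2
    rw [Subgroup.coe_mul, Subgroup.coe_mul, Subgroup.coe_inv, mul_smul, mul_smul, inv_smul_eq_iff] at h1
    exact h1
  have hSE : IsStronglyEmbedded H := by
    haveI : Fact (Nat.Prime 2) := ⟨Nat.prime_two⟩
    refine ⟨fun h => ?_, ?_, fun y hy => ?_⟩
    · obtain ⟨i, hi, -⟩ := exists_swap_fixed hC hb.symm
      have h1 := hmem ⟨i, swap_mem_lineStab hC hb.symm haL hbL hb.symm hi⟩ (h ▸ Subgroup.mem_top _)
      exact hb (hi.2.symm.trans h1)
    · have ho : orderOf (π zN) = 2 := orderOf_eq_prime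
        (by rw [pow_two, ← map_mul, show zN * zN = 1 from Subtype.ext hz.2.1, map_one]) (hmove zN hz)
      exact even_iff_two_dvd.mpr (ho ▸ Subgroup.orderOf_dvd_natCard H
        (Subgroup.mem_map_of_mem π (show (zN : G) • a = a from hz.2.2.1)))
    · by_contra hev
      obtain ⟨⟨x, hx⟩, hxo⟩ := exists_prime_orderOf_dvd_card' 2
        (even_iff_two_dvd.mp (Nat.not_odd_iff_even.mp hev))
      rw [Subgroup.orderOf_mk] at hxo
      obtain ⟨hx1, hx2⟩ := Subgroup.mem_inf.mp hx
      obtain ⟨h, hha, rfl⟩ := hx1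
      obtain ⟨g, rfl⟩ := hπs y
      obtain ⟨v, ⟨h', hh'a, rfl⟩, e⟩ := hx2
      rw [MulEquiv.coe_toMonoidHom, MulAut.conj_apply] at e
      have hga : (g : G) • a ≠ a := fun e' => hy (Subgroup.mem_map_of_mem π e')
      have hgL : (g : G) • a ∈ L := (g.2 a).mpr haL
      have hker : π ((g * h' * g⁻¹)⁻¹ * h) = 1 := by
        rw [map_mul, map_inv, map_mul, map_mul, map_inv, e, inv_mul_cancel]
      have hfix : (h : G) • (g : G) • a = (g : G) • a := by
        have h1 := (hkerR _).mp hker ((g : G) • a) hgL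
        rw [Subgroup.coe_mul, Subgroup.coe_inv, mul_smul, inv_smul_eq_iff, Subgroup.coe_mul,
          Subgroup.coe_mul, Subgroup.coe_inv, mul_smul, mul_smul, inv_smul_smul,
          show (h' : G) • a = a from hh'a] at h1
        exact h1
      obtain ⟨i, j, he, ⟨k, hk⟩, hj⟩ := CfsgLib.PGroup.FixedTerms.exists_parts Nat.prime_two h
      have hi1 : π (h ^ i) = 1 := by
        refine (hkerR _).mpr fun c hc => ?_
        have hmemR : ((h ^ i : N) : G) ∈ R hC a ((g : G) • a) := by
          refine ⟨⟨k, congrArg Subtype.val hk⟩, ?_, ?_⟩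
          · exact (zpow_mem (show h ∈ stabilizer N a from hha) i : h ^ i ∈ stabilizer N a)
          · exact (zpow_mem (show h ∈ stabilizer N ((g : G) • a) from hfix) i :
              h ^ i ∈ stabilizer N ((g : G) • a))
        rw [R_eq_of_mem_line hC hb.symm haL hgL (Ne.symm hga)] at hmemR
        exact hc _ hmemR
      have hdvd : 2 ∣ orderOf (h ^ j) := by
        have e2 : π h = π (h ^ j) := by
          conv_lhs => rw [he]
          rw [map_mul, hi1, one_mul]
        rw [← hxo, e2]
        exact orderOf_map_dvd π _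
      exact (Nat.prime_two.coprime_iff_not_dvd).mp hj.symm hdvd
  obtain ⟨t, Q, hS⟩ := hexp H hSE hcore h4
  haveI := SplitBender.faithful_of_core hcore
  haveI : Fact (Nat.Prime 2) := ⟨Nat.prime_two⟩
  obtain ⟨κ, hκ⟩ := (isPGroup_Q hS h4).exists_card_eq
  refine ⟨κ, ?_⟩
  rw [← hidx, ← hκ]
  exact card_space hS

omit hC in
/-- A subgroup of 2-power index of a finite nilpotent group contains the elements of odd prime order. -/
theorem mem_of_index_two_pow {W : Type*} [Group W] [Finite W] (hW : Group.IsNilpotent W)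
    {S : Subgroup W} {κ : ℕ} (hS : S.index = 2 ^ κ) {r : ℕ} (hr : r.Prime) (hr2 : r ≠ 2) {o : W}
    (ho : orderOf o = r) : o ∈ S := by
  haveI := hW
  haveI : Fact r.Prime := ⟨hr⟩
  obtain ⟨P, hP⟩ := (IsPGroup.of_card (n := 1) (p := r)
    (G := Subgroup.zpowers o) (by rw [Nat.card_zpowers, ho, pow_one])).exists_le_sylow
  haveI hPn : (P : Subgroup W).Normal :=
    P.normal_of_normalizerCondition Group.normalizerCondition_of_isNilpotent
  haveI := Sylow.unique_of_normal P hPn
  let PS : Sylow r S := Classical.arbitrary _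
  obtain ⟨P', hP'⟩ := (PS.isPGroup'.map S.subtype).exists_le_sylow
  rw [Subsingleton.elim P' P] at hP'
  have hfac : (Nat.card W).factorization r = (Nat.card S).factorization r := by
    rw [← S.card_mul_index, hS, Nat.factorization_mul Nat.card_pos.ne' (by positivity),
      Finsupp.add_apply, Nat.factorization_pow, Finsupp.smul_apply, Nat.prime_two.factorization,
      Finsupp.single_eq_of_ne hr2, smul_zero, add_zero]
  have heq : (PS : Subgroup S).map S.subtype = (P : Subgroup W) :=
    Subgroup.eq_of_le_of_card_ge hP' (by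
      rw [Subgroup.card_map_of_injective S.subtype_injective, PS.card_eq_multiplicity,
        P.card_eq_multiplicity, hfac])
  exact Subgroup.map_subtype_le _ (heq ▸ hP (Subgroup.mem_zpowers o))

/-- The normal nilpotent part of the stabiliser is a 2-group. -/
theorem isTwo_of_mem (hexp : SplitBender.SetupExists.{u}) {x : G} (hx : x ∈ U) : IsTwo x := by
  haveI := hC.nil
  haveI := finite_omega hC
  obtain ⟨i, j, he, ⟨k, hk⟩, hj⟩ := CfsgLib.PGroup.FixedTerms.exists_parts Nat.prime_two x
  suffices h : x ^ j = 1 by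
    rw [he, h, mul_one]
    exact ⟨k, hk⟩
  by_contra hne
  set y := x ^ j with hy
  have hyne : orderOf y ≠ 1 := fun e => hne (orderOf_eq_one_iff.mp e)
  obtain ⟨r, hr, hrdvd⟩ := Nat.exists_prime_and_dvd hyne
  have hr2 : r ≠ 2 := fun e => (Nat.prime_two.coprime_iff_not_dvd).mp hj.symm (e ▸ hrdvd)
  set o := y ^ (orderOf y / r) with ho
  have hor : orderOf o = r := orderOf_pow_orderOf_div (orderOf_pos y).ne' hrdvd
  have hoU : o ∈ U := pow_mem (zpow_mem hx j) _
  have hoa : o • a = a := hC.le hoU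
  have hfix : ∀ c : Ω, c ≠ a → o • c = c := by
    intro c hca
    set L := line hC a c with hL
    have haL : a ∈ L := left_mem_line hC a c
    let W : Subgroup U := (lineStab hC a c).subgroupOf U
    obtain ⟨κ, hκ⟩ := card_line hC hexp hca
    have horb : MulAction.orbit W c = L \ {a} := by
      ext d
      constructor
      · rintro ⟨g, rfl⟩
        exact ⟨((g.2 : ((g : U) : G) ∈ lineStab hC a c) c).mpr (right_mem_line hC a c),
          fun e => hca (smul_left_cancel ((g : U) : G)
            ((show ((g : U) : G) • c = a from e).trans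
              (show ((g : U) : G) • a = a from hC.le (g : U).2).symm))⟩
      · rintro ⟨hd, hda⟩
        obtain ⟨g, hg, rfl⟩ := hC.utrans c d hca hda
        refine ⟨⟨⟨g, hg⟩, ?_⟩, rfl⟩
        -- `g` normalises the 2-elements of the line
        have hga : g • a = a := hC.le hg
        have hR : ∀ x ∈ R hC a c, g * x * g⁻¹ ∈ R hC a c := fun x hx => by
          have h := conj_mem_R hC hx g
          rw [hga, R_eq_of_mem_line hC hca.symm haL hd (Ne.symm hda)] at h
          exact h
        have hRmap : (R hC a c).map (MulAut.conj g).toMonoidHom = R hC a c :=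
          Subgroup.eq_of_le_of_card_ge (Subgroup.map_le_iff_le_comap.mpr fun x hx => hR x hx)
            (by rw [Subgroup.card_map_of_injective (MulAut.conj g).injective])
        intro e
        constructor
        · intro he x hx
          have h1 := he _ (hR x hx)
          change (g * x * g⁻¹) • g • e = g • e at h1
          rw [mul_smul, mul_smul, inv_smul_smul] at h1
          exact smul_left_cancel g h1
        · intro he x hx
          change x • g • e = g • e
          rw [← hRmap] at hx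
          obtain ⟨w, hw, rfl⟩ := hx
          rw [MulEquiv.coe_toMonoidHom, MulAut.conj_apply, mul_smul, mul_smul, inv_smul_smul, he w hw]
    have hidx : (stabilizer W c).index = 2 ^ κ := by
      rw [MulAction.index_stabilizer, horb, Set.ncard_sdiff_singleton_of_mem haL, hκ, Nat.add_sub_cancel]
    have hoW : (⟨o, hoU⟩ : U) ∈ W := by
      refine centralize_mem_lineStab hC fun x hx => ?_
      have hxU : x ∈ U := hC.two x hx.2.1 hx.1
      refine congrArg Subtype.val (CfsgLib.PGroup.FixedTerms.commute_of_coprime' (L := U) hC.nil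
        (a := ⟨o, hoU⟩) (b := ⟨x, hxU⟩) ?_)
      rw [Subgroup.orderOf_mk, Subgroup.orderOf_mk, hor]
      obtain ⟨k, hk⟩ := hx.1
      exact Nat.Coprime.coprime_dvd_right (orderOf_dvd_of_pow_eq_one hk)
        (((Nat.coprime_primes hr Nat.prime_two).mpr hr2).pow_right k)
    exact mem_of_index_two_pow (W := W) inferInstance hidx hr hr2 (o := ⟨⟨o, hoU⟩, hoW⟩)
      (by rw [Subgroup.orderOf_mk, Subgroup.orderOf_mk, hor])
  have ho1 : o = 1 := @eq_of_smul_eq_smul G Ω _ hC.faithful _ _ fun c => by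
    rw [one_smul]
    by_cases hca : c = a
    · rw [hca, hoa]
    · exact hfix c hca
  rw [ho1, orderOf_one] at hor
  exact hr.one_lt.ne hor

theorem card_pred_two_pow (hexp : SplitBender.SetupExists.{u}) :
    ∃ m : ℕ, Nat.card Ω = 2 ^ m + 1 := by
  haveI := finite_omega hC
  haveI : Fact (Nat.Prime 2) := ⟨Nat.prime_two⟩
  obtain ⟨b, hb⟩ := hC.ne
  have horb : MulAction.orbit U b = Set.univ \ {a} := by
    ext d
    constructor
    · rintro ⟨g, rfl⟩
      exact ⟨trivial, fun e => hb (smul_left_cancel (g : G)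
        ((show (g : G) • b = a from e).trans (show (g : G) • a = a from hC.le g.2).symm))⟩
    · rintro ⟨-, hd⟩
      obtain ⟨g, hg, rfl⟩ := hC.utrans b d hb hd
      exact ⟨⟨g, hg⟩, rfl⟩
  have hp : IsPGroup 2 U := fun x => by
    obtain ⟨k, hk⟩ := isTwo_of_mem hC hexp x.2
    exact ⟨k, Subtype.ext hk⟩
  obtain ⟨n, hn⟩ := hp.exists_card_eq
  obtain ⟨m, -, hm⟩ := (Nat.dvd_prime_pow Nat.prime_two).1
    (hn ▸ Subgroup.index_dvd_card (stabilizer U b))
  refine ⟨m, ?_⟩
  rw [MulAction.index_stabilizer, horb, Set.ncard_sdiff_singleton_of_mem (Set.mem_univ a),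
    Set.ncard_univ] at hm
  haveI : Nonempty Ω := ⟨a⟩
  have := Nat.card_pos (α := Ω)
  omega

theorem exists_card_T : ∃ γ : ℕ, 1 ≤ γ ∧ Nat.card (T hC a) = 2 ^ γ := by
  haveI : Fact (Nat.Prime 2) := ⟨Nat.prime_two⟩
  have hp : IsPGroup 2 (T hC a) := fun z => ⟨1, by
    rw [pow_one, pow_two]
    rcases z.2 with e | e
    · exact Subtype.ext (by simp [e])
    · exact Subtype.ext e.2.1⟩
  obtain ⟨n, hn⟩ := hp.exists_card_eq
  refine ⟨n, ?_, hn⟩
  have := card_T hC a
  have := three_le_card_C hC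
  rcases n with _ | n
  · rw [pow_zero] at hn; omega
  · omega

theorem T_smul_self {z : G} (hz : z ∈ T hC a) : z • a = a := by
  rcases hz with e | e
  · rw [e, one_smul]
  · exact e.2.2.1

theorem T_smul_inj {z w : G} (hz : z ∈ T hC a) (hw : w ∈ T hC a) {c : Ω} (hc : c ≠ a)
    (h : z • c = w • c) : z = w := by
  have h1 : (w⁻¹ * z) • c = c := by rw [mul_smul, h, inv_smul_smul]
  rcases mul_mem (inv_mem hw) hz with e | e
  · exact (inv_mul_eq_one.mp e).symm
  · exact absurd (C_fix hC e h1) hc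

theorem T_central {z : G} (hz : z ∈ T hC a) {x : G} (hx : IsTwo x) (hxa : x • a = a) :
    x * z = z * x := by
  rcases hz with e | e
  · rw [e, mul_one, one_mul]
  · exact e.2.2.2 x hx hxa

/-- An involution fixing two points. -/
theorem invol_facts (hexp : SplitBender.SetupExists.{u}) {x : G} (hx : x * x = 1) (hx1 : x ≠ 1)
    (hxa : x • a = a) {c : Ω} (hc : c ≠ a) (hxc : x • c = c) :
    nfix Ω x = Nat.card (T hC a) + 1 ∧ Nat.card Ω = Nat.card (T hC a) ^ 3 + 1 ∧
      (∀ d : Ω, d ≠ a → x • d = d → ∃ z ∈ T hC a, z • c = d) ∧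
      (∀ d : Ω, d ∈ line hC a c ↔ x • d = d) := by
  classical
  haveI := finite_omega hC
  haveI : Fact (Nat.Prime 2) := ⟨Nat.prime_two⟩
  let F : T hC a → {d : Ω // d ≠ a ∧ x • d = d} := fun z => ⟨(z : G) • c,
    fun e => hc (smul_left_cancel (z : G) (e.trans (T_smul_self hC z.2).symm)),
    by rw [smul_smul, T_central hC z.2 (isTwo_of_sq hx) hxa, mul_smul, hxc]⟩
  have hFinj : Function.Injective F := fun z w h =>
    Subtype.ext (T_smul_inj hC z.2 w.2 hc (congrArg Subtype.val h))
  have hle := Nat.card_le_card_of_injective F hFinj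
  have hpred := card_fixed_ne hC hxa
  obtain ⟨m, hm⟩ := card_pred_two_pow hC hexp
  obtain ⟨γ, hγ1, hγ⟩ := exists_card_T hC
  obtain ⟨-, hn⟩ := card_omega hC hx hx1 hxa hc hxc
  have hT := card_T hC a
  set t := Nat.card {z : G // IsC z a} with ht
  set e := Nat.card {d : Ω // d ≠ a ∧ x • d = d} with he
  rw [hm, ← hpred] at hn
  push_cast at hn
  have hnat : 2 ^ m = e * (1 + t * (e + 1)) := by
    have : (2 ^ m : ℤ) = (e : ℤ) * (1 + t * (e + 1)) := by linarith
    exact_mod_cast this
  obtain ⟨α, -, hα⟩ := (Nat.dvd_prime_pow Nat.prime_two).1 (Dvd.intro _ hnat.symm)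
  rw [hγ] at hle
  obtain ⟨β, hβ⟩ := Nat.exists_eq_add_of_le
    ((Nat.pow_le_pow_iff_right (by norm_num)).mp (hα ▸ hle))
  have hei : e = (t + 1) * 2 ^ β := by rw [hα, hβ, pow_add, ← hT, hγ]
  have h2 : 1 + t * (e + 1) = (t + 1) * (1 + t * 2 ^ β) := by rw [hei]; ring
  have hβ0 : β = 0 := by
    by_contra hne
    obtain ⟨δ, -, hδ⟩ := (Nat.dvd_prime_pow Nat.prime_two).1
      (show 1 + t * 2 ^ β ∣ 2 ^ m by rw [hnat, h2]; exact Dvd.intro_left _ (mul_assoc _ _ _))
    have hev : 2 ∣ t * 2 ^ β := (dvd_pow_self 2 hne).mul_left t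
    have h3 := three_le_card_C hC
    have hpos : 0 < t * 2 ^ β := Nat.mul_pos (by omega) (Nat.two_pow_pos β)
    rcases δ with _ | δ
    · simp only [pow_zero] at hδ; omega
    · rw [pow_succ] at hδ; omega
  rw [hβ0, pow_zero, mul_one] at hei
  have hbij : Function.Bijective F :=
    (Nat.bijective_iff_injective_and_card F).mpr ⟨hFinj, by omega⟩
  refine ⟨by omega, ?_, ?_, fun d => ⟨fun h => h x ⟨isTwo_of_sq hx, hxa, hxc⟩, fun h => ?_⟩⟩
  · rw [hm, hnat, hT, h2, hei, hβ0]; ring
  · intro d hd hxd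
    obtain ⟨z, hz⟩ := hbij.2 ⟨d, hd, hxd⟩
    exact ⟨z, z.2, congrArg Subtype.val hz⟩
  · by_cases hd : d = a
    · exact hd ▸ left_mem_line hC a c
    obtain ⟨z, hz⟩ := hbij.2 ⟨d, hd, h⟩
    have hzd : (z : G) • c = d := congrArg Subtype.val hz
    intro g hg
    rw [← hzd, smul_smul, T_central hC z.2 hg.1 hg.2.1, mul_smul, hg.2.2]

/-- The 2-elements fixing two points form an elementary abelian group. -/
theorem R_sq (hexp : SplitBender.SetupExists.{u}) {b : Ω} (hb : b ≠ a) :
    ∀ r ∈ R hC a b, r * r = 1 := by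
  haveI := finite_omega hC
  haveI : Fact (Nat.Prime 2) := ⟨Nat.prime_two⟩
  intro r hr
  rcases eq_or_ne (R hC a b) ⊥ with hbot | hne
  · rw [hbot, Subgroup.mem_bot] at hr
    rw [hr, one_mul]
  have hp : IsPGroup 2 (R hC a b) := fun g => by
    obtain ⟨k, hk⟩ := g.2.1
    exact ⟨k, Subtype.ext hk⟩
  haveI : Nontrivial (R hC a b) := (Subgroup.nontrivial_iff_ne_bot _).mpr hne
  haveI := hp.center_nontrivial
  obtain ⟨n, hn⟩ := (hp.to_subgroup (Subgroup.center (R hC a b))).exists_card_eq
  obtain ⟨x0, hx0⟩ := exists_prime_orderOf_dvd_card' (G := Subgroup.center (R hC a b)) 2 (by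
    have := Finite.one_lt_card (α := Subgroup.center (R hC a b))
    rw [hn] at this ⊢
    refine dvd_pow_self 2 fun h0 => ?_
    rw [h0] at this; simp at this)
  set x : G := ((x0 : R hC a b) : G) with hxdef
  have hxR : x ∈ R hC a b := (x0 : R hC a b).2
  have hxo : orderOf x = 2 := by rw [hxdef, Subgroup.orderOf_coe, Subgroup.orderOf_coe, hx0]
  have hxx : x * x = 1 := by rw [← pow_two, ← hxo]; exact pow_orderOf_eq_one x
  have hx1 : x ≠ 1 := fun e => by rw [e, orderOf_one] at hxo; omega
  have hxr : ∀ g ∈ R hC a b, g * x = x * g := fun g hg =>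
    congrArg Subtype.val (Subgroup.mem_center_iff.mp x0.2 ⟨g, hg⟩)
  obtain ⟨e, he⟩ := exists_isC hC a
  have hxe : x * e = e * x := he.2.2.2 x hxR.1 hxR.2.1
  have heT : e ∈ T hC a := Or.inr he
  have hxe2 : x * e * (x * e) = 1 := by
    calc x * e * (x * e) = x * (e * x) * e := by group
      _ = (x * x) * (e * e) := by rw [← hxe]; group
      _ = 1 := by rw [hxx, he.2.1, one_mul]
  have hxea : (x * e) • a = a := by rw [mul_smul, he.2.2.1, hxR.2.1]
  have hxe1 : x * e ≠ 1 := fun h => hb (C_fix hC he (by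
    have h1 : x = e := by
      calc x = x * (e * e) := by rw [he.2.1, mul_one]
        _ = e := by rw [← mul_assoc, h, one_mul]
    rw [← h1]; exact hxR.2.2))
  obtain ⟨c, hca, hxec⟩ : ∃ c, c ≠ a ∧ (x * e) • c = c := by
    have h1 := (card_omega hC hxx hx1 hxR.2.1 hb hxR.2.2).1 e heT
    have h2 := (invol_facts hC hexp hxx hx1 hxR.2.1 hb hxR.2.2).1
    have h3 := card_fixed_ne hC hxea
    have h4 := card_T hC a
    obtain ⟨⟨c, hc⟩⟩ := (Finite.card_pos_iff (α := {c : Ω // c ≠ a ∧ (x * e) • c = c})).mp (by omega)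
    exact ⟨c, hc⟩
  obtain ⟨-, -, htr, -⟩ := invol_facts hC hexp hxe2 hxe1 hxea hca hxec
  -- an element fixing the point `c` is trivial
  have hfree : ∀ g ∈ R hC a b, g • c = c → g = 1 := by
    intro g hg hgc
    by_contra hg1
    obtain ⟨k, hk⟩ := hg.1
    obtain ⟨k', -, hk'⟩ := (Nat.dvd_prime_pow Nat.prime_two).1 (orderOf_dvd_of_pow_eq_one hk)
    obtain ⟨l, hl⟩ : ∃ l, k' = l + 1 := Nat.exists_eq_succ_of_ne_zero fun h0 => hg1 (by
      rw [← orderOf_eq_one_iff, hk', h0, pow_zero])
    have hw : orderOf (g ^ 2 ^ l) = 2 := by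
      rw [orderOf_pow_of_dvd (by positivity) (hk' ▸ pow_dvd_pow 2 (by omega)), hk', hl, pow_succ,
        Nat.mul_div_cancel_left _ (Nat.two_pow_pos l)]
    have hwR : g ^ 2 ^ l ∈ R hC a b := pow_mem hg _
    have hwc : g ^ 2 ^ l • c = c := (pow_mem (show g ∈ stabilizer G c from hgc) _ : g ^ 2 ^ l ∈ stabilizer G c)
    have hw1 : g ^ 2 ^ l ≠ 1 := fun e => by rw [e, orderOf_one] at hw; omega
    have hwsq : g ^ 2 ^ l * g ^ 2 ^ l = 1 := by
      have h2 := pow_orderOf_eq_one (g ^ 2 ^ l)
      rw [hw, pow_two] at h2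
      exact h2
    have hline := ((invol_facts hC hexp hwsq hw1
      hwR.2.1 hb hwR.2.2).2.2.2 c).mpr hwc
    have hxc : x • c = c := hline x hxR
    refine hca (C_fix hC he ?_)
    rw [mul_smul] at hxec
    exact smul_left_cancel x (hxec.trans hxc.symm)
  have hz : ∀ g ∈ R hC a b, ∃ z ∈ T hC a, z • c = g • c := fun g hg => by
    refine htr _ (fun h => hca (smul_left_cancel g (h.trans hg.2.1.symm))) ?_
    have hcm : g * (x * e) = x * e * g := by
      rw [← mul_assoc, hxr g hg, mul_assoc, he.2.2.2 g hg.1 hg.2.1, ← mul_assoc]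
    rw [smul_smul, ← hcm, mul_smul, hxec]
  obtain ⟨z, hzT, hzc⟩ := hz r hr
  refine hfree _ (mul_mem hr hr) ?_
  have hzz : z * z = 1 := by
    rcases hzT with e' | e'
    · rw [e', one_mul]
    · exact e'.2.1
  rw [mul_smul, ← hzc, smul_smul, T_central hC hzT hr.1 hr.2.1, mul_smul, ← hzc, smul_smul, hzz,
    one_smul]

end CfsgLib.RankOne.StrongSplit
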