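import Cfsg.Agent.Lib.RankOne.StrongSplit.Pair

/-!
# The elements of the normaliser central modulo `T` over its normaliser, and `|R| = 2`

`M` is the normaliser of `P` in `U`; `A` consists of the elements of `P` whose commutators with `M` lie
in `T`. Then `P = A R`, `M` centralises `P / A`, and the non-trivial elements of `R` invert `A`, so
there is only one of them.
-/

set_option autoImplicit false
set_option linter.style.haveILetI false

open Cfsg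

namespace CfsgLib.RankOne.StrongSplit

open MulAction

universe u v

variable {G : Type u} {Ω : Type v} [Group G] [MulAction G Ω] [Finite G] {a : Ω} {U : Subgroup G}
  (hC : Config G a U)
include hC

/-- In the nilpotent `U` a subgroup not inside another has an element central modulo it. -/
theorem exists_step {P0 T0 : Subgroup G} (hP : P0 ≤ U) (h : ¬ P0 ≤ T0) :
    ∃ p ∈ P0, p ∉ T0 ∧ ∀ m ∈ U, p * m * p⁻¹ * m⁻¹ ∈ P0 → p * m * p⁻¹ * m⁻¹ ∈ T0 := by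
  classical
  have hex : ∃ n, P0 ⊓ U.lowerCentralSeries n ≤ T0 := by
    obtain ⟨n, hn⟩ := (Subgroup.isNilpotent_iff_lowerCentralSeries U).mp hC.nil
    exact ⟨n, by rw [hn, inf_bot_eq]; exact bot_le⟩
  obtain ⟨k, hk⟩ : ∃ k, Nat.find hex = k + 1 := Nat.exists_eq_succ_of_ne_zero fun h0 => h (by
    have h1 := Nat.find_spec hex
    rwa [h0, Subgroup.lowerCentralSeries_zero, inf_eq_left.mpr hP] at h1)
  have h2 := Nat.find_spec hex
  rw [hk] at h2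
  obtain ⟨p, hp, hpT⟩ := SetLike.not_le_iff_exists.mp (Nat.find_min hex (show k < Nat.find hex by omega))
  refine ⟨p, hp.1, hpT, fun m hm hmP => h2 ⟨hmP, ?_⟩⟩
  rw [Subgroup.lowerCentralSeries_succ, ← commutatorElement_def]
  exact Subgroup.commutator_mem_commutator hp.2 hm

/-- The normaliser of `P` in `U`. -/
def M (b : Ω) : Subgroup G := U ⊓ Subgroup.normalizer ((P hC b : Subgroup G) : Set G)

theorem conj_P_of_mem_M {b : Ω} {m p : G} (hm : m ∈ M hC b) (hp : p ∈ P hC b) :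
    m * p * m⁻¹ ∈ P hC b :=
  (Subgroup.mem_normalizer_iff.mp hm.2 p).mp hp

theorem P_le_M {b : Ω} {s : G} (hs : s ∈ P hC b) : s ∈ M hC b :=
  ⟨hs.1, Subgroup.le_normalizer hs⟩

theorem IsE.conj_M (hexp : SplitBender.SetupExists.{u}) {b : Ω} {y : G} (hy : IsE hC b y) {m : G}
    (hm : m ∈ M hC b) : y * m * y⁻¹ ∈ M hC b := by
  refine ⟨hy.conj_U hC hm.1, mem_normalizer_of_le fun p hp => ?_⟩
  have h1 := (hy.inv hC).conj_P hC hexp hp
  rw [inv_inv] at h1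
  rw [show y * m * y⁻¹ * p * (y * m * y⁻¹)⁻¹ = y * (m * (y⁻¹ * p * y) * m⁻¹) * y⁻¹ by group]
  exact hy.conj_P hC hexp (conj_P_of_mem_M hC hm h1)

/-- The normaliser of `T R` is proper in `U`. -/
theorem exists_not_mem_P (hexp : SplitBender.SetupExists.{u}) {b : Ω} (hb : b ≠ a) {v : G}
    (hv : v ∈ R hC a b) (hv1 : v ≠ 1) : ∃ s ∈ U, s ∉ P hC b := by
  haveI := finite_omega hC
  by_contra h
  push Not at h
  choose s hs hfix using fun z : T hC a => exists_mem_P hC hexp hb hv hv1 z.2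
  let F : (T hC a) × (T hC a) → {c : Ω // c ≠ a} := fun p => ⟨(p.2 : G) • s p.1 • b, fun e =>
    hb (smul_left_cancel (s p.1) ((smul_left_cancel (p.2 : G) (e.trans (T_smul_self hC p.2.2).symm)).trans
      (show s p.1 • a = a from hC.le (hs p.1).1).symm))⟩
  have hF : Function.Surjective F := by
    rintro ⟨c, hc⟩
    obtain ⟨g, hg, rfl⟩ := hC.utrans b c hb hc
    obtain ⟨r, hr, z, hz, e⟩ := exists_T_of_mem_P hC hexp hb hv (h g hg)
    have hzf : (z * v) • g • b = g • b := by rw [← e, mul_smul, mul_smul, inv_smul_smul, hr.2.2]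
    obtain ⟨w, hw, r', hr', e'⟩ := same_line hC hexp hb hv hv1 hz (hs ⟨z, hz⟩).1 hg (hfix ⟨z, hz⟩) hzf
    refine ⟨(⟨z, hz⟩, ⟨w, hw⟩), Subtype.ext ?_⟩
    change w • s ⟨z, hz⟩ • b = g • b
    calc w • s ⟨z, hz⟩ • b = (w * s ⟨z, hz⟩) • b := (mul_smul _ _ _).symm
      _ = (s ⟨z, hz⟩ * w) • r' • b := by rw [hr'.2.2, T_comm_U hC hexp hw (hs ⟨z, hz⟩).1]
      _ = (s ⟨z, hz⟩ * (w * r')) • b := by rw [smul_smul, mul_assoc]
      _ = g • b := by rw [← e', mul_inv_cancel_left]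
  have h1 := Nat.card_le_card_of_surjective F hF
  classical
  haveI := Fintype.ofFinite Ω
  rw [Nat.card_prod, Nat.card_eq_fintype_card (α := {c : Ω // c ≠ a}), Fintype.card_subtype_compl,
    Fintype.card_subtype_eq, ← Nat.card_eq_fintype_card] at h1
  rw [(invol_facts hC hexp (R_sq hC hexp hb v hv) hv1 hv.2.1 hb hv.2.2).2.1] at h1
  have h3 := three_le_card_C hC
  rw [card_T hC a, Nat.add_sub_cancel] at h1
  have h2 : (Nat.card {z : G // IsC z a} + 1) * (Nat.card {z : G // IsC z a} + 1) <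
      (Nat.card {z : G // IsC z a} + 1) ^ 3 := by
    rw [pow_succ, pow_two]
    exact lt_mul_of_one_lt_right (by positivity) (by omega)
  omega

theorem exists_mem_M (hexp : SplitBender.SetupExists.{u}) {b : Ω} (hb : b ≠ a) {v : G}
    (hv : v ∈ R hC a b) (hv1 : v ≠ 1) : ∃ s ∈ M hC b, s ∉ P hC b := by
  obtain ⟨s₀, hs₀, hs₀'⟩ := exists_not_mem_P hC hexp hb hv hv1
  obtain ⟨s, hs, hsP, hstep⟩ := exists_step hC (le_refl U) (T0 := P hC b) fun h => hs₀' (h hs₀)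
  refine ⟨s, ⟨hs, mem_normalizer_of_le fun m hm => ?_⟩, hsP⟩
  have h1 : s * m * s⁻¹ * m⁻¹ ∈ P hC b :=
    hstep m hm.1 (mul_mem (mul_mem (mul_mem hs hm.1) (inv_mem hs)) (inv_mem hm.1))
  have h2 := mul_mem h1 hm
  rwa [inv_mul_cancel_right] at h2

/-- The elements of `P` whose commutators with `M` lie in `T`. -/
def A (hexp : SplitBender.SetupExists.{u}) (b : Ω) : Subgroup G where
  carrier := {p | p ∈ P hC b ∧ ∀ m ∈ M hC b, p * m * p⁻¹ * m⁻¹ ∈ T hC a}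
  one_mem' := ⟨one_mem _, fun m _ => by simp⟩
  mul_mem' := by
    rintro p q ⟨hp, hp'⟩ ⟨hq, hq'⟩
    refine ⟨mul_mem hp hq, fun m hm => ?_⟩
    rw [show p * q * m * (p * q)⁻¹ * m⁻¹ = p * (q * m * q⁻¹ * m⁻¹) * p⁻¹ * (p * m * p⁻¹ * m⁻¹) by group,
      T_comm_U hC hexp (hq' m hm) hp.1, mul_inv_cancel_right]
    exact mul_mem (hq' m hm) (hp' m hm)
  inv_mem' := by
    rintro p ⟨hp, hp'⟩
    refine ⟨inv_mem hp, fun m hm => ?_⟩
    rw [show p⁻¹ * m * p⁻¹⁻¹ * m⁻¹ = p⁻¹ * (p * m * p⁻¹ * m⁻¹)⁻¹ * p by group,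
      T_comm_U hC hexp (inv_mem (hp' m hm)) (inv_mem hp.1), inv_mul_cancel_right]
    exact inv_mem (hp' m hm)

theorem T_le_A (hexp : SplitBender.SetupExists.{u}) {b : Ω} (hb : b ≠ a) {z : G} (hz : z ∈ T hC a) :
    z ∈ A hC hexp b :=
  ⟨N1_le_P hC hexp hb (T_le_N1 hC b hz), fun m hm => by
    rw [← T_comm_U hC hexp hz hm.1, mul_inv_cancel_right, mul_inv_cancel]
    exact one_mem _⟩

theorem conj_A_of_mem_M (hexp : SplitBender.SetupExists.{u}) {b : Ω} (hb : b ≠ a) {m α : G}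
    (hm : m ∈ M hC b) (hα : α ∈ A hC hexp b) : m * α * m⁻¹ ∈ A hC hexp b := by
  have h2 := mul_mem (T_le_A hC hexp hb (inv_mem (hα.2 m hm))) hα
  rwa [show (α * m * α⁻¹ * m⁻¹)⁻¹ * α = m * α * m⁻¹ by group] at h2

/-- `A` meets `T R` in `T`. -/
theorem A_inf_N1 (hexp : SplitBender.SetupExists.{u}) {b : Ω} (hb : b ≠ a) {α : G}
    (hα : α ∈ A hC hexp b) (hαN : α ∈ N1 hC b) : α ∈ T hC a := by
  obtain ⟨z, hz, r, hr, rfl⟩ := hαN
  by_cases hr1 : r = 1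
  · rw [hr1, mul_one]; exact hz
  exfalso
  obtain ⟨s, hs, hsP⟩ := exists_mem_M hC hexp hb hr hr1
  have hzA := T_le_A hC hexp hb hz
  have hrA : r ∈ A hC hexp b := by
    have := mul_mem (inv_mem hzA) hα
    rwa [inv_mul_cancel_left] at this
  have h := hrA.2 s hs
  rw [inv_eq_of_mul_eq_one_right (R_sq hC hexp hb r hr)] at h
  refine hsP (mem_P_of_conj hC hexp hb hr hr1 hs.1 ⟨(r * s * r * s⁻¹), h, r, hr, ?_⟩)
  rw [← T_central hC h hr.1 hr.2.1]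
  calc s * r * s⁻¹ = (r * r) * s * r * s⁻¹ := by rw [R_sq hC hexp hb r hr, one_mul]
    _ = r * (r * s * r * s⁻¹) := by group

theorem IsE.conj_A (hexp : SplitBender.SetupExists.{u}) {b : Ω} {y : G} (hy : IsE hC b y) {α : G}
    (hα : α ∈ A hC hexp b) : y * α * y⁻¹ ∈ A hC hexp b := by
  refine ⟨hy.conj_P hC hexp hα.1, fun m hm => ?_⟩
  have h1 := (hy.inv hC).conj_M hC hexp hm
  rw [inv_inv] at h1
  rw [show y * α * y⁻¹ * m * (y * α * y⁻¹)⁻¹ * m⁻¹ =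
      y * (α * (y⁻¹ * m * y) * α⁻¹ * (y⁻¹ * m * y)⁻¹) * y⁻¹ by group]
  exact conj_mem_T hC hy.1 (hα.2 _ h1)

/-- `A` is not inside `T`. -/
theorem exists_mem_A (hexp : SplitBender.SetupExists.{u}) {b : Ω} (hb : b ≠ a) {v : G}
    (hv : v ∈ R hC a b) (hv1 : v ≠ 1) : ∃ α ∈ A hC hexp b, α ∉ T hC a := by
  obtain ⟨p, hp, hpT, hstep⟩ := exists_step hC (P0 := P hC b) (fun _ h => h.1) (T0 := T hC a) fun h =>
    hv1 (T_inf_R hC hb (h (N1_le_P hC hexp hb (R_le_N1 hC b hv))) hv.2.2)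
  refine ⟨p, ⟨hp, fun m hm => hstep m hm.1 ?_⟩, hpT⟩
  rw [show p * m * p⁻¹ * m⁻¹ = p * (m * p⁻¹ * m⁻¹) by group]
  exact mul_mem hp (conj_P_of_mem_M hC hm (inv_mem hp))

/-- Outside `T` all elements of `A` are related by some `y`, modulo `T`. -/
theorem exists_isE_A (hexp : SplitBender.SetupExists.{u}) {b : Ω} (hb : b ≠ a) {v : G}
    (hv : v ∈ R hC a b) (hv1 : v ≠ 1) {α β : G} (hα : α ∈ A hC hexp b) (hαT : α ∉ T hC a)
    (hβ : β ∈ A hC hexp b) (hβT : β ∉ T hC a) :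
    ∃ y : G, IsE hC b y ∧ ∃ z ∈ T hC a, β = y * α * y⁻¹ * z := by
  obtain ⟨y, hy, hn⟩ := exists_isE_map hC hexp hb hv hv1 hα.1
    (fun h => hαT (A_inf_N1 hC hexp hb hα h)) hβ.1 (fun h => hβT (A_inf_N1 hC hexp hb hβ h))
  exact ⟨y, hy, _, A_inf_N1 hC hexp hb (mul_mem (inv_mem (hy.conj_A hC hexp hα)) hβ) hn,
    (mul_inv_cancel_left _ _).symm⟩

/-- `P = A R`. -/
theorem P_decomp (hexp : SplitBender.SetupExists.{u}) {b : Ω} (hb : b ≠ a) {v : G}
    (hv : v ∈ R hC a b) (hv1 : v ≠ 1) {p : G} (hp : p ∈ P hC b) :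
    ∃ α ∈ A hC hexp b, ∃ r ∈ R hC a b, p = α * r := by
  obtain ⟨α, hα, hn⟩ : ∃ α ∈ A hC hexp b, α⁻¹ * p ∈ N1 hC b := by
    by_cases hpn : p ∈ N1 hC b
    · exact ⟨1, one_mem _, by rwa [inv_one, one_mul]⟩
    obtain ⟨β, hβ, hβT⟩ := exists_mem_A hC hexp hb hv hv1
    obtain ⟨y, hy, hn⟩ := exists_isE_map hC hexp hb hv hv1 hβ.1
      (fun h => hβT (A_inf_N1 hC hexp hb hβ h)) hp hpn
    exact ⟨_, hy.conj_A hC hexp hβ, hn⟩
  obtain ⟨z, hz, r, hr, e⟩ := hn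
  exact ⟨α * z, mul_mem hα (T_le_A hC hexp hb hz), r, hr, by rw [mul_assoc, ← e, mul_inv_cancel_left]⟩

/-- `M` centralises `P` modulo `A`. -/
theorem M_comm (hexp : SplitBender.SetupExists.{u}) {b : Ω} (hb : b ≠ a) {v : G} (hv : v ∈ R hC a b)
    (hv1 : v ≠ 1) {m : G} (hm : m ∈ M hC b) {r : G} (hr : r ∈ R hC a b) :
    m * r * m⁻¹ * r ∈ A hC hexp b := by
  haveI : Fact (Nat.Prime 2) := ⟨Nat.prime_two⟩
  let K : Subgroup G :=
    { carrier := {g | g ∈ M hC b ∧ ∀ r ∈ R hC a b, g * r * g⁻¹ * r ∈ A hC hexp b}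
      one_mem' := ⟨one_mem _, fun r hr => by
        rw [one_mul, inv_one, mul_one, R_sq hC hexp hb r hr]; exact one_mem _⟩
      mul_mem' := by
        rintro g g' ⟨hg, hg1⟩ ⟨hg', hg'1⟩
        refine ⟨mul_mem hg hg', fun r hr => ?_⟩
        have e : g * g' * r * (g * g')⁻¹ * r =
            g * (g' * r * g'⁻¹ * r) * g⁻¹ * (g * r⁻¹ * g⁻¹ * r) := by group
        rw [inv_eq_of_mul_eq_one_right (R_sq hC hexp hb r hr)] at e
        rw [e]
        exact mul_mem (conj_A_of_mem_M hC hexp hb hg (hg'1 r hr)) (hg1 r hr)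
      inv_mem' := by
        rintro g ⟨hg, hg1⟩
        refine ⟨inv_mem hg, fun r hr => ?_⟩
        have h1 := inv_mem (conj_A_of_mem_M hC hexp hb (inv_mem hg) (hg1 r hr))
        have e : (g⁻¹ * (g * r * g⁻¹ * r) * g⁻¹⁻¹)⁻¹ = g⁻¹ * r⁻¹ * g * r⁻¹ := by group
        rw [e, inv_eq_of_mul_eq_one_right (R_sq hC hexp hb r hr)] at h1
        rwa [inv_inv] }
  suffices hK : m ∈ K from hK.2 r hr
  have hPK : ∀ p ∈ P hC b, p ∈ K := fun p hp => ⟨P_le_M hC hp, fun r hr => by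
    obtain ⟨z, hz, e⟩ := P_comm hC hexp hb hp hr
    rw [e, mul_assoc, R_sq hC hexp hb r hr, mul_one]
    exact T_le_A hC hexp hb hz⟩
  obtain ⟨r₀, y, hr₀, hr₀2, hy, hy1, hfix⟩ := exists_isE_free hC hexp hb
    (fun h => hv1 (Subgroup.mem_bot.mp (h ▸ hv)))
  have hcong : ∀ g ∈ M hC b, g⁻¹ * (y * g * y⁻¹) ∈ K := by
    intro g hg
    refine ⟨mul_mem (inv_mem hg) (hy.conj_M hC hexp hg), fun r hr => ?_⟩
    obtain ⟨α, hα, r', hr', e⟩ := P_decomp hC hexp hb hv hv1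
      (conj_P_of_mem_M hC hg (N1_le_P hC hexp hb (R_le_N1 hC b hr)))
    have h2 : y⁻¹ * r * y = r := by rw [mul_assoc, ← hy.2.2 r hr, inv_mul_cancel_left]
    have e2 : y * g * y⁻¹ * r * (y * g * y⁻¹)⁻¹ = y * α * y⁻¹ * r' := by
      calc y * g * y⁻¹ * r * (y * g * y⁻¹)⁻¹ = y * (g * (y⁻¹ * r * y) * g⁻¹) * y⁻¹ := by group
        _ = y * α * y⁻¹ * (y * r' * y⁻¹) := by rw [h2, e]; group
        _ = y * α * y⁻¹ * r' := by rw [hy.2.2 r' hr', mul_inv_cancel_right]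
    have e3 : g * r * g⁻¹ = (α * r')⁻¹ := by
      rw [← e, conj_inv, inv_eq_of_mul_eq_one_right (R_sq hC hexp hb r hr)]
    have h5 : g⁻¹ * (y * g * y⁻¹) * r * (g⁻¹ * (y * g * y⁻¹))⁻¹ * r =
        g⁻¹ * (y * α * y⁻¹ * α⁻¹) * g⁻¹⁻¹ := by
      calc g⁻¹ * (y * g * y⁻¹) * r * (g⁻¹ * (y * g * y⁻¹))⁻¹ * r
          = g⁻¹ * ((y * g * y⁻¹ * r * (y * g * y⁻¹)⁻¹) * (g * r * g⁻¹)) * g := by group
        _ = g⁻¹ * ((y * α * y⁻¹ * r') * (α * r')⁻¹) * g := by rw [e2, e3]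
        _ = g⁻¹ * (y * α * y⁻¹ * α⁻¹) * g⁻¹⁻¹ := by group
    rw [h5]
    exact conj_A_of_mem_M hC hexp hb (inv_mem hg) (mul_mem (hy.conj_A hC hexp hα) (inv_mem hα))
  have hKy : ∀ k ∈ K, y * k * y⁻¹ ∈ K := fun k hk => by
    have h1 := mul_mem hk (hcong k hk.1)
    rwa [mul_inv_cancel_left] at h1
  haveI : Fintype K := Fintype.ofFinite K
  let f : Equiv.Perm K :=
    { toFun := fun k => ⟨m⁻¹ * (y * (m * k) * y⁻¹), by
        rw [show m⁻¹ * (y * (m * (k : G)) * y⁻¹) = m⁻¹ * (y * m * y⁻¹) * (y * k * y⁻¹) by group]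
        exact mul_mem (hcong m hm) (hKy _ k.2)⟩
      invFun := fun k => ⟨m⁻¹ * (y⁻¹ * (m * k) * y), by
        have hmk : m * (k : G) ∈ M hC b := mul_mem hm k.2.1
        have h := (hy.inv hC).conj_M hC hexp hmk
        rw [inv_inv] at h
        have h1 := hcong _ h
        rw [show y * (y⁻¹ * (m * (k : G)) * y) * y⁻¹ = m * k by group] at h1
        have h2 := mul_mem k.2 (inv_mem h1)
        rwa [show (k : G) * ((y⁻¹ * (m * (k : G)) * y)⁻¹ * (m * k))⁻¹ =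
          m⁻¹ * (y⁻¹ * (m * (k : G)) * y) by group] at h2⟩
      left_inv := fun k => Subtype.ext
        (show m⁻¹ * (y⁻¹ * (m * (m⁻¹ * (y * (m * (k : G)) * y⁻¹))) * y) = k by group)
      right_inv := fun k => Subtype.ext
        (show m⁻¹ * (y * (m * (m⁻¹ * (y⁻¹ * (m * (k : G)) * y))) * y⁻¹) = k by group) }
  have hfn : ∀ (n : ℕ) (k : K), (((f ^ n) k : K) : G) = m⁻¹ * (y ^ n * (m * k) * (y ^ n)⁻¹) := by
    intro n
    induction n with
    | zero => intro k; simp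
    | succ n ih =>
      intro k
      rw [pow_succ', Equiv.Perm.mul_apply]
      change m⁻¹ * (y * (m * (((f ^ n) k : K) : G)) * y⁻¹) = _
      rw [ih k, pow_succ' y]
      group
  haveI : Fact r₀.Prime := ⟨hr₀⟩
  have hpK : IsPGroup 2 K := fun k => by
    obtain ⟨n, hn⟩ := isTwo_of_mem hC hexp k.2.1.1
    exact ⟨n, Subtype.ext hn⟩
  obtain ⟨k, hk⟩ := Equiv.Perm.exists_fixed_point_of_prime (p := r₀) (n := 1) (σ := f)
    (by
      rw [← Nat.card_eq_fintype_card]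
      obtain ⟨n, hn⟩ := hpK.exists_card_eq
      rw [hn]
      exact fun h => hr₀2 ((Nat.prime_dvd_prime_iff_eq hr₀ Nat.prime_two).mp (hr₀.dvd_of_dvd_pow h)))
    (by
      refine Equiv.ext fun k => Subtype.ext ?_
      rw [pow_one, hfn r₀ k, hy1]
      simp)
  have hk' : m⁻¹ * (y * (m * (k : G)) * y⁻¹) = k := congrArg Subtype.val hk
  have hcm : m * (k : G) * y = y * (m * k) := by
    calc m * (k : G) * y = m * (m⁻¹ * (y * (m * (k : G)) * y⁻¹)) * y := by rw [hk']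
      _ = y * (m * k) := by group
  have hmk : m * (k : G) ∈ M hC b := mul_mem hm k.2.1
  have hmkR : m * (k : G) ∈ R hC a b :=
    ⟨isTwo_of_mem hC hexp hmk.1, hC.le hmk.1, hfix _ hmk.1 hcm⟩
  have h6 := mul_mem (hPK _ (N1_le_P hC hexp hb (R_le_N1 hC b hmkR))) (inv_mem k.2)
  rwa [mul_inv_cancel_right] at h6

/-- The non-trivial elements of `R` invert `A`. -/
theorem inverts (hexp : SplitBender.SetupExists.{u}) {b : Ω} (hb : b ≠ a) {v : G}
    (hv : v ∈ R hC a b) (hv1 : v ≠ 1) {α : G} (hα : α ∈ A hC hexp b) : v * α * v⁻¹ = α⁻¹ := by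
  have hvv := R_sq hC hexp hb v hv
  have hvi : v⁻¹ = v := inv_eq_of_mul_eq_one_right hvv
  by_cases hαT : α ∈ T hC a
  · rw [T_central hC hαT hv.1 hv.2.1, mul_inv_cancel_right, inv_eq_of_mul_eq_one_right (sq_T hC hαT)]
  obtain ⟨s, hs, hsP⟩ := exists_mem_M hC hexp hb hv hv1
  set ρ := s * v * s⁻¹ * v with hρ
  have hρA : ρ ∈ A hC hexp b := M_comm hC hexp hb hv hv1 hs hv
  have hρT : ρ ∉ T hC a := fun h => hsP (mem_P_of_conj hC hexp hb hv hv1 hs.1 ⟨ρ, h, v, hv, by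
    rw [hρ, mul_assoc (s * v * s⁻¹) v v, hvv, mul_one]⟩)
  obtain ⟨y, hy, z, hz, rfl⟩ := exists_isE_A hC hexp hb hv hv1 hρA hρT hα hαT
  have h1 : v * ρ * v⁻¹ = ρ⁻¹ := by
    have e : ρ⁻¹ = v⁻¹ * s * v⁻¹ * s⁻¹ := by rw [hρ]; group
    rw [e, hvi, hρ]
    calc v * (s * v * s⁻¹ * v) * v = v * (s * v * s⁻¹) * (v * v) := by group
      _ = v * s * v * s⁻¹ := by rw [hvv, mul_one]; group
  have hvy : y * v * y⁻¹ = v := by rw [hy.2.2 v hv, mul_inv_cancel_right]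
  calc v * (y * ρ * y⁻¹ * z) * v⁻¹
      = (y * v * y⁻¹) * (y * ρ * y⁻¹) * (y * v * y⁻¹)⁻¹ * (v * z * v⁻¹) := by rw [hvy]; group
    _ = y * (v * ρ * v⁻¹) * y⁻¹ * z := by
        rw [T_central hC hz hv.1 hv.2.1, mul_inv_cancel_right]; group
    _ = z * (y * ρ⁻¹ * y⁻¹) := by
        rw [h1]; exact T_comm_U hC hexp hz (hy.conj_U hC (inv_mem hρA.1.1))
    _ = (y * ρ * y⁻¹ * z)⁻¹ := by
        rw [mul_inv_rev (y * ρ * y⁻¹) z, inv_eq_of_mul_eq_one_right (sq_T hC hz), conj_inv]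

/-- There is only one non-trivial 2-element fixing two points. -/
theorem R_two (hexp : SplitBender.SetupExists.{u}) {b : Ω} (hb : b ≠ a) {v : G}
    (hv : v ∈ R hC a b) (hv1 : v ≠ 1) {r : G} (hr : r ∈ R hC a b) : r = 1 ∨ r = v := by
  by_contra h
  push Not at h
  obtain ⟨hr1, hrv⟩ := h
  obtain ⟨α, hα, hαT⟩ := exists_mem_A hC hexp hb hv hv1
  refine hαT (A_inf_N1 hC hexp hb hα
    (mem_N1_of_commute hC hexp hb (v := r * v) (mul_mem hr hv) (fun e => hrv ?_) hα.1.1 ?_))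
  · exact (eq_inv_of_mul_eq_one_left e).trans (inv_eq_of_mul_eq_one_right (R_sq hC hexp hb v hv))
  · have h1 : r * v * α * (r * v)⁻¹ = α := by
      calc r * v * α * (r * v)⁻¹ = r * (v * α * v⁻¹) * r⁻¹ := by group
        _ = α := by
          rw [inverts hC hexp hb hv hv1 hα, inverts hC hexp hb hr hr1 (inv_mem hα), inv_inv]
    exact (mul_inv_eq_iff_eq_mul.mp h1).symm

end CfsgLib.RankOne.StrongSplit
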