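import Cfsg.Agent.Lib.RankOne.StrongSplit.Basic

/-!
# The fixed points of an involution fixing two points

The 2-elements fixing two points centralise the class involutions exchanging them; every point moved
by an involution is fixed by exactly one product with a commuting class involution. Counting gives
`|Ω| = f (1 + t (f - 1))` for the number `f` of fixed points.
-/

set_option autoImplicit false
set_option linter.style.haveILetI false

open Cfsg

namespace CfsgLib.RankOne.StrongSplit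

open MulAction

universe u v

variable {G : Type u} {Ω : Type v} [Group G] [MulAction G Ω] [Finite G] {a : Ω} {U : Subgroup G}
  (hC : Config G a U)
include hC

/-- The 2-elements fixing two points. -/
def R (p q : Ω) : Subgroup G where
  carrier := {g | IsTwo g ∧ g • p = p ∧ g • q = q}
  one_mem' := ⟨isTwo_one, one_smul G p, one_smul G q⟩
  mul_mem' {g h} hg hh := ⟨isTwo_mul hC hg.1 hh.1 hg.2.1 hh.2.1,
    by rw [mul_smul, hh.2.1, hg.2.1], by rw [mul_smul, hh.2.2, hg.2.2]⟩
  inv_mem' {g} hg := ⟨isTwo_inv hg.1, inv_smul_eq_iff.mpr hg.2.1.symm, inv_smul_eq_iff.mpr hg.2.2.symm⟩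

theorem mem_R {p q : Ω} {g : G} : g ∈ R hC p q ↔ IsTwo g ∧ g • p = p ∧ g • q = q := Iff.rfl

theorem conj_swap {p q : Ω} {g i : G} (hp : g • p = p) (hq : g • q = q) (hi : i ∈ swaps G p q) :
    g * i * g⁻¹ ∈ swaps G p q := by
  obtain ⟨⟨c, hc⟩, hip⟩ := hi
  refine ⟨⟨_, hc.conj g⟩, ?_⟩
  rw [mul_smul, mul_smul, inv_smul_eq_iff.mpr hp.symm, hip, hq]

theorem exists_swap_fixed {p q : Ω} (hpq : p ≠ q) :
    ∃ i ∈ swaps G p q, ∀ g ∈ R hC p q, g * i = i * g := by
  haveI : Fact (Nat.Prime 2) := ⟨Nat.prime_two⟩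
  letI : MulAction (R hC p q) (swaps G p q) :=
    { smul := fun g i => ⟨(g : G) * i * (g : G)⁻¹, conj_swap hC g.2.2.1 g.2.2.2 i.2⟩
      one_smul := fun i => Subtype.ext (show ((1 : R hC p q) : G) * i * ((1 : R hC p q) : G)⁻¹ = i by simp)
      mul_smul := fun g h i => Subtype.ext (show ((g * h : R hC p q) : G) * i * ((g * h : R hC p q) : G)⁻¹ =
        (g : G) * ((h : G) * i * (h : G)⁻¹) * (g : G)⁻¹ by rw [Subgroup.coe_mul]; group) }
  have hp : IsPGroup 2 (R hC p q) := fun g => by
    obtain ⟨k, hk⟩ := g.2.1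
    exact ⟨k, Subtype.ext hk⟩
  obtain ⟨i, hi⟩ := hp.nonempty_fixed_point_of_prime_not_dvd_card (swaps G p q) (by
    intro h
    obtain ⟨m, hm⟩ := odd_swaps hC hpq
    omega)
  exact ⟨i, i.2, fun g hg => mul_inv_eq_iff_eq_mul.mp (congrArg Subtype.val (hi ⟨g, hg⟩))⟩

/-- The class involutions exchanging two points centralise the 2-elements fixing both. -/
theorem swap_commute {p q : Ω} (hpq : p ≠ q) {g i : G} (hg : g ∈ R hC p q) (hi : i ∈ swaps G p q) :
    g * i = i * g := by
  obtain ⟨i₀, hi₀, hfix⟩ := exists_swap_fixed hC hpq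
  by_cases hii : i₀ = i
  · exact hii ▸ hfix g hg
  obtain ⟨⟨c₀, hc₀⟩, h0p⟩ := hi₀
  obtain ⟨⟨c, hc⟩, hip⟩ := hi
  have hne : c₀ ≠ c := by
    rintro rfl
    have h1 := C_mul hC hc₀ hc hii
    have h2 : (i₀ * i) • p = p := by
      rw [mul_smul, hip, swaps_symm hC ⟨⟨c₀, hc₀⟩, h0p⟩]
    have h3 := C_fix hC h1 h2
    exact hpq (by rw [← h0p, h3, hc₀.2.2.1])
  have hiq : i • q = p := swaps_symm hC ⟨⟨c, hc⟩, hip⟩
  have hii1 : i⁻¹ = i := inv_eq_of_mul_eq_one_right hc.2.1
  have h0i : i₀⁻¹ = i₀ := inv_eq_of_mul_eq_one_right hc₀.2.1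
  have hmem : ∀ y ∈ R hC p q, i * y * i ∈ R hC p q := fun y hy => by
    refine ⟨?_, ?_, ?_⟩
    · have := isTwo_conj hy.1 i
      rwa [hii1] at this
    · rw [mul_smul, mul_smul, hip, hy.2.2, hiq]
    · rw [mul_smul, mul_smul, hiq, hy.2.1, hip]
  set x := i₀ * i with hx
  have hxi : ∀ y ∈ R hC p q, x * y * x⁻¹ = i * y * i := fun y hy => by
    calc x * y * x⁻¹ = i₀ * (i * y * i⁻¹) * i₀⁻¹ := by rw [hx]; group
      _ = (i * y * i) * i₀ * i₀⁻¹ := by rw [hii1, ← hfix _ (hmem y hy)]
      _ = i * y * i := by group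
  have hx2 : Commute (x * x) g := by
    refine mul_inv_eq_iff_eq_mul.mp ?_
    calc x * x * g * (x * x)⁻¹ = x * (x * g * x⁻¹) * x⁻¹ := by group
      _ = i * (i * g * i) * i := by rw [hxi g hg, hxi _ (hmem g hg)]
      _ = (i * i) * g * (i * i) := by group
      _ = g := by rw [hc.2.1, one_mul, mul_one]
  obtain ⟨m, hm⟩ := odd_mul hC hc₀ hc hne
  have hxg : Commute x g := by
    have h1 : (x * x) ^ (m + 1) = x := by
      rw [← pow_two, ← pow_mul, show 2 * (m + 1) = orderOf x + 1 by rw [hx]; omega, pow_succ,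
        pow_orderOf_eq_one, one_mul]
    exact h1 ▸ hx2.pow_left (m + 1)
  have h2 : i * g * i = g := by rw [← hxi g hg, hxg.eq, mul_inv_cancel_right]
  calc g * i = i * g * i * i := by rw [h2]
    _ = i * g := by rw [mul_assoc, hc.2.1, mul_one]

theorem exists_decomp {x : G} (hx : x * x = 1) {c : Ω} (hc : x • c ≠ c) :
    ∃ (f : Ω) (e : G), IsC e f ∧ x • f = f ∧ e • c = x • c := by
  classical
  haveI : Fintype (swaps G c (x • c)) := Fintype.ofFinite _
  have hxx : x⁻¹ = x := inv_eq_of_mul_eq_one_right hx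
  have hst : ∀ i : swaps G c (x • c), x * (i : G) * x⁻¹ ∈ swaps G c (x • c) := fun i => by
    obtain ⟨⟨d, hd⟩, hi⟩ := i.2
    refine ⟨⟨_, hd.conj x⟩, ?_⟩
    rw [hxx, mul_smul, mul_smul, swaps_symm hC i.2]
  let σ : swaps G c (x • c) → swaps G c (x • c) := fun i => ⟨_, hst i⟩
  have hσ : Function.Involutive σ := fun i => Subtype.ext (by
    change x * (x * (i : G) * x⁻¹) * x⁻¹ = i
    rw [hxx, ← mul_assoc, ← mul_assoc, hx, one_mul, mul_assoc, hx, mul_one])
  haveI : Fact (Nat.Prime 2) := ⟨Nat.prime_two⟩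
  obtain ⟨i, hi⟩ := Equiv.Perm.exists_fixed_point_of_prime (p := 2) (n := 1) (σ := hσ.toPerm) (by
      obtain ⟨m, hm⟩ := odd_swaps hC (p := c) (q := x • c) (Ne.symm hc)
      rw [Nat.card_eq_fintype_card] at hm
      omega) (by
    ext i
    simp [pow_succ, Equiv.Perm.mul_apply, hσ i])
  obtain ⟨⟨f, hf⟩, hic⟩ := i.2
  refine ⟨f, i, hf, ?_, hic⟩
  have h1 : x * (i : G) * x⁻¹ = i := congrArg Subtype.val hi
  have h2 := hf.conj x
  rw [h1] at h2
  exact C_fix hC hf h2.2.2.1

theorem decomp_unique {x : G} (hx : x * x = 1) {c : Ω} (hc : x • c ≠ c) {f f' : Ω} {e e' : G}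
    (he : IsC e f) (hf : x • f = f) (hec : e • c = x • c)
    (he' : IsC e' f') (hf' : x • f' = f') (hec' : e' • c = x • c) : e = e' := by
  by_contra hne
  have hxe : x * e = e * x := he.2.2.2 x (isTwo_of_sq hx) hf
  have hxe' : x * e' = e' * x := he'.2.2.2 x (isTwo_of_sq hx) hf'
  set d := x • c with hd
  have hxd : x • d = c := by rw [hd, smul_smul, hx, one_smul]
  have hed : e • d = c := by rw [← hec, smul_smul, he.2.1, one_smul]
  have hv : x * e ∈ R hC c d := by
    refine ⟨isTwo_of_sq ?_, ?_, ?_⟩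
    · calc x * e * (x * e) = x * (e * x) * e := by group
        _ = (x * x) * (e * e) := by rw [← hxe]; group
        _ = 1 := by rw [hx, he.2.1, one_mul]
    · rw [mul_smul, hec, hxd]
    · rw [mul_smul, hed]
  have hc' : (x * e) * e' = e' * (x * e) := swap_commute hC (Ne.symm hc) hv ⟨⟨f', he'⟩, hec'⟩
  have hee : e * e' = e' * e := by
    have h1 : e = x * (x * e) := by rw [← mul_assoc, hx, one_mul]
    calc e * e' = x * ((x * e) * e') := by conv_lhs => rw [h1, mul_assoc]
      _ = x * e' * (x * e) := by rw [hc']; group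
      _ = e' * (x * (x * e)) := by rw [hxe']; group
      _ = e' * e := by rw [← h1]
  by_cases hff : f = f'
  · subst hff
    have h1 := C_mul hC he he' hne
    have h2 : (e * e') • c = c := by rw [mul_smul, hec', hed]
    have h3 := C_fix hC h1 h2
    subst h3
    exact hc (hd.trans hf)
  · have hodd := odd_mul hC he he' hff
    have h2 : (e * e') ^ 2 = 1 := by
      rw [pow_two]
      calc e * e' * (e * e') = e * (e' * e) * e' := by group
        _ = (e * e) * (e' * e') := by rw [← hee]; group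
        _ = 1 := by rw [he.2.1, he'.2.1, one_mul]
    rcases (Nat.dvd_prime Nat.prime_two).mp (orderOf_dvd_of_pow_eq_one h2) with h3 | h3
    · rw [orderOf_eq_one_iff] at h3
      exact hne (by rw [← mul_one e, ← he'.2.1, ← mul_assoc, h3, one_mul])
    · rw [h3] at hodd; exact absurd hodd (by decide)

omit hC in
/-- The number of fixed points. -/
noncomputable def nfix (Ω : Type v) [MulAction G Ω] (x : G) : ℕ := Nat.card {p : Ω // x • p = p}

theorem card_fixed_ne {x : G} {p : Ω} (hp : x • p = p) :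
    Nat.card {c : Ω // c ≠ p ∧ x • c = c} + 1 = nfix Ω x := by
  classical
  haveI := finite_omega hC
  haveI := Fintype.ofFinite Ω
  have h1 : Nat.card {c : Ω // c ≠ p ∧ x • c = c} =
      Nat.card {c : {c : Ω // x • c = c} // c ≠ ⟨p, hp⟩} :=
    Nat.card_congr
      { toFun := fun c => ⟨⟨c.1, c.2.2⟩, fun e => c.2.1 (congrArg Subtype.val e)⟩
        invFun := fun c => ⟨c.1.1, fun e => c.2 (Subtype.ext e), c.1.2⟩
        left_inv := fun c => rfl
        right_inv := fun c => rfl }
  rw [h1, nfix, Nat.card_eq_fintype_card, Nat.card_eq_fintype_card, Fintype.card_subtype_compl,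
    Fintype.card_subtype_eq]
  have : 0 < Fintype.card {c : Ω // x • c = c} := Fintype.card_pos_iff.mpr ⟨⟨p, hp⟩⟩
  omega

/-- The counting formula, over the whole group of class involutions at a fixed point. -/
theorem count_formula [Fintype (T hC a)] {x : G} (hx : x * x = 1) (hxa : x • a = a) :
    (Nat.card Ω : ℤ) = nfix Ω x *
      (1 + ((∑ z : T hC a, ((nfix Ω (x * z) : ℤ) - 1)) - ((nfix Ω x : ℤ) - 1))) := by
  classical
  haveI := finite_omega hC
  haveI := Fintype.ofFinite Ω
  haveI := Fintype.ofFinite G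
  -- moved points
  let X := (f : {p : Ω // x • p = p}) × (e : {e : G // IsC e (f : Ω)}) ×
    {c : Ω // c ≠ (f : Ω) ∧ (x * (e : G)) • c = c}
  have hXe : ∀ y : X, (y.2.1 : G) • (y.2.2 : Ω) = x • (y.2.2 : Ω) := fun y => by
    have h := y.2.2.2.2
    rw [mul_smul] at h
    conv_rhs => rw [← h]
    rw [smul_smul, hx, one_smul]
  have hXm : ∀ y : X, x • (y.2.2 : Ω) ≠ y.2.2 := fun y h =>
    y.2.2.2.1 (C_fix hC y.2.1.2 ((hXe y).trans h))
  let F : X → {c : Ω // x • c ≠ c} := fun y => ⟨y.2.2, hXm y⟩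
  have hF : Function.Bijective F := by
    constructor
    · rintro ⟨⟨f, hf⟩, ⟨e, he⟩, ⟨c, hc⟩⟩ ⟨⟨f', hf'⟩, ⟨e', he'⟩, ⟨c', hc'⟩⟩ h
      have hcc : c = c' := congrArg Subtype.val h
      subst hcc
      have hee : e = e' := decomp_unique hC hx (hXm ⟨⟨f, hf⟩, ⟨e, he⟩, ⟨c, hc⟩⟩) he hf
        (hXe ⟨⟨f, hf⟩, ⟨e, he⟩, ⟨c, hc⟩⟩) he' hf' (hXe ⟨⟨f', hf'⟩, ⟨e', he'⟩, ⟨c, hc'⟩⟩)
      subst hee
      have hff : f = f' := (C_fix hC he he'.2.2.1).symm
      subst hff
      rfl
    · rintro ⟨c, hc⟩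
      obtain ⟨f, e, he, hf, hec⟩ := exists_decomp hC hx hc
      exact ⟨⟨⟨f, hf⟩, ⟨e, he⟩, ⟨c, fun h => hc (h ▸ hf),
        by rw [mul_smul, hec, smul_smul, hx, one_smul]⟩⟩, rfl⟩
  have hcard := Nat.card_eq_of_bijective F hF
  -- all fixed points contribute equally
  have hsame : ∀ f : {p : Ω // x • p = p},
      Nat.card ((e : {e : G // IsC e (f : Ω)}) × {c : Ω // c ≠ (f : Ω) ∧ (x * (e : G)) • c = c}) =
      Nat.card ((e : {e : G // IsC e a}) × {c : Ω // c ≠ a ∧ (x * (e : G)) • c = c}) := by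
    rintro ⟨f, hf⟩
    by_cases hfa : f = a
    · subst hfa; rfl
    obtain ⟨i, hi, -⟩ := exists_swap_fixed hC hfa
    have hxi : x * i = i * x := swap_commute hC hfa ⟨isTwo_of_sq hx, hf, hxa⟩ hi
    obtain ⟨⟨d, hd⟩, hif⟩ := hi
    have hii : i⁻¹ = i := inv_eq_of_mul_eq_one_right hd.2.1
    refine Nat.card_congr (Equiv.sigmaCongr (Equiv.subtypeEquiv (MulAut.conj i).toEquiv fun e => ?_)
      fun e => Equiv.subtypeEquiv (MulAction.toPerm i) fun c => ?_)
    · refine ⟨fun h => ?_, fun h => ?_⟩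
      · have := h.conj i
        rwa [hif] at this
      · have h' : IsC (i * e * i⁻¹) a := h
        have := h'.conj i⁻¹
        rw [← hif, inv_smul_smul] at this
        simpa [mul_assoc] using this
    · change _ ↔ i • c ≠ a ∧ (x * (i * (e : G) * i⁻¹)) • i • c = i • c
      have h1 : (x * (i * (e : G) * i⁻¹)) • i • c = i • ((x * (e : G)) • c) := by
        rw [smul_smul, smul_smul, ← mul_assoc, ← mul_assoc, hxi]
        congr 1
        group
      rw [h1, ← hif]
      exact and_congr ⟨fun h e => h (smul_left_cancel i e), fun h e => h (by rw [e])⟩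
        ⟨fun h => by rw [h], fun h => smul_left_cancel i h⟩
  have hsum : (Nat.card {c : Ω // x • c ≠ c} : ℤ) = nfix Ω x *
      ∑ e : {e : G // IsC e a}, ((nfix Ω (x * e) : ℤ) - 1) := by
    rw [← hcard, Nat.card_sigma, Finset.sum_congr rfl fun f _ => hsame f, Finset.sum_const,
      Finset.card_univ, Nat.card_sigma, smul_eq_mul, nfix, Nat.card_eq_fintype_card (α := {p : Ω // x • p = p})]
    push_cast
    congr 1
    refine Finset.sum_congr rfl fun e _ => ?_
    have h := card_fixed_ne hC (x := x * (e : G)) (p := a) (by rw [mul_smul, e.2.2.2.1, hxa])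
    omega
  have hTsum : (∑ z : T hC a, ((nfix Ω (x * z) : ℤ) - 1)) =
      ((nfix Ω x : ℤ) - 1) + ∑ e : {e : G // IsC e a}, ((nfix Ω (x * e) : ℤ) - 1) := by
    rw [← Finset.add_sum_erase _ _ (Finset.mem_univ (1 : T hC a)), OneMemClass.coe_one, mul_one]
    congr 1
    refine Finset.sum_bij' (fun z hz => ⟨(z : G), z.2.resolve_left fun e =>
        (Finset.mem_erase.mp hz).1 (Subtype.ext e)⟩)
      (fun e _ => ⟨(e : G), Or.inr e.2⟩) (fun _ _ => Finset.mem_univ _)
      (fun e _ => Finset.mem_erase.mpr ⟨fun h => e.2.1 (congrArg Subtype.val h), Finset.mem_univ _⟩)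
      (fun _ _ => rfl) (fun _ _ => rfl) (fun _ _ => rfl)
  have htot : (Nat.card Ω : ℤ) = nfix Ω x + Nat.card {c : Ω // x • c ≠ c} := by
    rw [nfix, Nat.card_eq_fintype_card, Nat.card_eq_fintype_card, Nat.card_eq_fintype_card,
      Fintype.card_subtype_compl]
    have := Fintype.card_subtype_le fun c : Ω => x • c = c
    push_cast [this]
    ring
  rw [htot, hsum, hTsum]
  ring

/-- An involution fixing two points: the counting identity. -/
theorem card_omega {x : G} (hx : x * x = 1) (hx1 : x ≠ 1) (hxa : x • a = a) {b : Ω} (hb : b ≠ a)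
    (hxb : x • b = b) :
    (∀ z ∈ T hC a, nfix Ω (x * z) = nfix Ω x) ∧
      (Nat.card Ω : ℤ) = nfix Ω x * (1 + Nat.card {z : G // IsC z a} * ((nfix Ω x : ℤ) - 1)) := by
  classical
  haveI := finite_omega hC
  haveI := Fintype.ofFinite Ω
  haveI := Fintype.ofFinite (T hC a)
  let φ : T hC a → ℤ := fun z => (nfix Ω (x * z) : ℤ) - 1
  set Stot := ∑ z, φ z with hStot
  have hpos : ∀ y : G, y • a = a → 0 ≤ (nfix Ω y : ℤ) - 1 := fun y hy => by
    have := card_fixed_ne hC hy
    omega
  have hTa : ∀ z : T hC a, (x * (z : G)) • a = a := fun z => by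
    rcases z.2 with e | e
    · rw [e, mul_one, hxa]
    · rw [mul_smul, e.2.2.1, hxa]
  have hφ0 : ∀ z, 0 ≤ φ z := fun z => hpos _ (hTa z)
  have hTsq : ∀ z : T hC a, (x * (z : G)) * (x * z) = 1 := fun z => by
    rcases z.2 with e | e
    · rw [e, mul_one, hx]
    · have h := e.2.2.2 x (isTwo_of_sq hx) hxa
      calc x * (z : G) * (x * z) = x * ((z : G) * x) * z := by group
        _ = (x * x) * ((z : G) * z) := by rw [← h]; group
        _ = 1 := by rw [hx, e.2.1, one_mul]
  have hform : ∀ z, (Nat.card Ω : ℤ) = (φ z + 1) * (1 + (Stot - φ z)) := fun z => by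
    have h := count_formula hC (hTsq z) (hTa z)
    have e : (∑ w : T hC a, ((nfix Ω (x * (z : G) * w) : ℤ) - 1)) = Stot := by
      rw [hStot, ← Equiv.sum_comp (Equiv.mulLeft z) φ]
      exact Finset.sum_congr rfl fun w _ => by simp [φ, mul_assoc]
    rw [e] at h
    rw [h]; ring
  set X := φ 1 with hX
  have hX1 : 1 ≤ X := by
    have h := card_fixed_ne hC hxa
    have : 0 < Nat.card {c : Ω // c ≠ a ∧ x • c = c} := Finite.card_pos_iff.mpr ⟨⟨b, hb, hxb⟩⟩
    simp only [hX, φ, OneMemClass.coe_one, mul_one]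
    omega
  have hφ1 : ∀ z, 1 ≤ φ z := fun z => by
    by_contra h
    have hz : φ z = 0 := by have := hφ0 z; omega
    have h1 := hform z
    have h2 := hform 1
    rw [← hX, h1, hz] at h2
    have h3 : X * (Stot - X) = 0 := by linarith
    have h4 : Stot = X := by
      rcases mul_eq_zero.mp h3 with e | e <;> omega
    rw [h4, hz, sub_zero, zero_add, one_mul] at h1
    have hall : ∀ c : Ω, x • c = c := by
      intro c
      by_contra hc
      have : nfix Ω x < Nat.card Ω := by
        rw [nfix, Nat.card_eq_fintype_card, Nat.card_eq_fintype_card]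
        exact Fintype.card_subtype_lt (x := c) hc
      simp only [hX, φ, OneMemClass.coe_one, mul_one] at h1
      omega
    exact hx1 (@eq_of_smul_eq_smul G Ω _ hC.faithful _ _ fun c => by rw [hall c, one_smul])
  have hall : ∀ z, φ z = X := fun z => by
    by_contra hne
    have h1 := hform z
    have h2 := hform 1
    rw [← hX, h1] at h2
    have h3 : (φ z - X) * (Stot - φ z - X) = 0 := by linarith
    have h4 : Stot = φ z + X := by
      rcases mul_eq_zero.mp h3 with e | e <;> omega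
    -- a third element
    obtain ⟨w, hw1, hwz⟩ : ∃ w : T hC a, w ≠ 1 ∧ w ≠ z := by
      by_contra hno
      push Not at hno
      have hc : Fintype.card (T hC a) ≤ ({1, z} : Finset (T hC a)).card :=
        Finset.card_le_card fun w _ => by
          by_cases h : w = 1
          · simp [h]
          · simp [hno w h]
      have h5 := (Finset.card_le_two (a := (1 : T hC a)) (b := z))
      have h6 := card_T hC a
      rw [Nat.card_eq_fintype_card] at h6
      have := three_le_card_C hC
      omega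
    have hz1 : z ≠ 1 := fun e => hne (by rw [e])
    have h7 : φ 1 + φ z + φ w ≤ Stot := by
      rw [hStot]
      calc φ 1 + φ z + φ w = ∑ y ∈ ({1, z, w} : Finset (T hC a)), φ y := by
            rw [Finset.sum_insert (by simp [Ne.symm hz1, Ne.symm hw1]),
              Finset.sum_insert (by simp [Ne.symm hwz]), Finset.sum_singleton]; ring
        _ ≤ ∑ y, φ y := Finset.sum_le_sum_of_subset_of_nonneg (Finset.subset_univ _) fun y _ _ => hφ0 y
    have := hφ1 w
    rw [← hX] at h7
    omega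
  constructor
  · intro z hz
    have h := hall ⟨z, hz⟩
    simp only [hX, φ, OneMemClass.coe_one, mul_one] at h
    omega
  · have h := hform 1
    have hs : Stot = (Nat.card {z : G // IsC z a} + 1 : ℤ) * X := by
      rw [hStot, Finset.sum_congr rfl fun z _ => hall z, Finset.sum_const, Finset.card_univ,
        ← Nat.card_eq_fintype_card, card_T hC, nsmul_eq_mul]
      push_cast; ring
    have hx' : (nfix Ω x : ℤ) = X + 1 := by simp only [hX, φ, OneMemClass.coe_one, mul_one]; ring
    rw [h, ← hX, hs, hx']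
    ring

end CfsgLib.RankOne.StrongSplit
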