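import Cfsg.Agent.Lib.RankOne.StrongSplit.Centre
import Cfsg.Agent.Lib.Fusion.ThompsonTransfer

/-!
# No involution fixes two points

With `R = {1, v}` the conjugates of `v` in `U` are `A v`, and `U / A` is elementary abelian; transfer
gives a subgroup of index two.
-/

set_option autoImplicit false
set_option linter.style.haveILetI false

open Cfsg

namespace CfsgLib.RankOne.StrongSplit

open MulAction

universe u v

variable {G : Type u} {Ω : Type v} [Group G] [MulAction G Ω] [Finite G] {a : Ω} {U : Subgroup G}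
  (hC : Config G a U)
include hC

theorem conj_ne {b : Ω} (hb : b ≠ a) {s : G} (hs : s ∈ U) : s • b ≠ a := fun e =>
  hb (smul_left_cancel s (e.trans (show s • a = a from hC.le hs).symm))

/-- Every conjugate of `v` under `U` is `v` times an element of `A`. -/
theorem conj_mem_A (hexp : SplitBender.SetupExists.{u}) {b : Ω} (hb : b ≠ a) {v : G}
    (hv : v ∈ R hC a b) (hv1 : v ≠ 1) {s : G} (hs : s ∈ U) :
    (∃ m ∈ M hC b, m * v * m⁻¹ = s * v * s⁻¹) ∧ s * v * s⁻¹ * v ∈ A hC hexp b := by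
  classical
  haveI := finite_omega hC
  have hvv := R_sq hC hexp hb v hv
  have hvi : v⁻¹ = v := inv_eq_of_mul_eq_one_right hvv
  obtain ⟨s₀, hs₀, hs₀P⟩ := exists_mem_M hC hexp hb hv hv1
  set ρ := s₀ * v * s₀⁻¹ * v with hρ
  have hρA : ρ ∈ A hC hexp b := M_comm hC hexp hb hv hv1 hs₀ hv
  have hρT : ρ ∉ T hC a := fun h => hs₀P (mem_P_of_conj hC hexp hb hv hv1 hs₀.1 ⟨ρ, h, v, hv, by
    rw [hρ, mul_assoc (s₀ * v * s₀⁻¹) v v, hvv, mul_one]⟩)
  -- `A v` consists of conjugates under `M`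
  have hsurj : ∀ α ∈ A hC hexp b, ∃ m ∈ M hC b, m * v * m⁻¹ = α * v := by
    have hT : ∀ z ∈ T hC a, ∃ p ∈ P hC b, p * v * p⁻¹ = z * v := by
      intro z hz
      obtain ⟨p, hp, hfix⟩ := exists_mem_P hC hexp hb hv hv1 hz
      obtain ⟨z', hz', e⟩ := P_comm hC hexp hb hp hv
      refine ⟨p, hp, ?_⟩
      suffices z' = z by rw [e, this]
      refine T_smul_inj hC hz' hz (c := v • p • b) ?_ ?_
      · exact fun h => conj_ne hC hb hp.1 (smul_left_cancel v (h.trans hv.2.1.symm))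
      · rw [smul_smul z, hfix, smul_smul z', ← e, mul_smul, mul_smul, inv_smul_smul, hv.2.2]
    intro α hα
    by_cases hαT : α ∈ T hC a
    · obtain ⟨p, hp, e⟩ := hT α hαT
      exact ⟨p, P_le_M hC hp, e⟩
    obtain ⟨y, hy, z, hz, rfl⟩ := exists_isE_A hC hexp hb hv hv1 hρA hρT hα hαT
    obtain ⟨p, hp, e⟩ := hT z hz
    have hsy : y * s₀ * y⁻¹ ∈ M hC b := hy.conj_M hC hexp hs₀
    refine ⟨_, mul_mem hsy (P_le_M hC hp), ?_⟩
    have h2 : y⁻¹ * v * y = v := by rw [mul_assoc, ← hy.2.2 v hv, inv_mul_cancel_left]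
    calc y * s₀ * y⁻¹ * p * v * (y * s₀ * y⁻¹ * p)⁻¹
        = (y * s₀ * y⁻¹) * (p * v * p⁻¹) * (y * s₀ * y⁻¹)⁻¹ := by group
      _ = (y * s₀ * y⁻¹ * z) * v * (y * s₀ * y⁻¹)⁻¹ := by rw [e]; group
      _ = z * (y * (s₀ * (y⁻¹ * v * y) * s₀⁻¹) * y⁻¹) := by
          rw [T_comm_U hC hexp hz hsy.1]; group
      _ = z * (y * (ρ * v) * y⁻¹) := by
          rw [h2, hρ, mul_assoc (s₀ * v * s₀⁻¹) v v, hvv, mul_one]
      _ = z * (y * ρ * y⁻¹) * (y * v * y⁻¹) := by group
      _ = y * ρ * y⁻¹ * z * v := by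
          rw [hy.2.2 v hv, mul_inv_cancel_right, T_comm_U hC hexp hz (hy.conj_U hC hρA.1.1)]
  -- the number of conjugates
  let V := {w : G // ∃ g ∈ U, g * v * g⁻¹ = w}
  choose g hgU hge using fun w : V => w.2
  let Φ : V × T hC a → {c : Ω // c ≠ a} := fun p => ⟨(p.2 : G) • g p.1 • b, fun e =>
    conj_ne hC hb (hgU p.1) (smul_left_cancel (p.2 : G) (e.trans (T_smul_self hC p.2.2).symm))⟩
  have hwfix : ∀ p : V × T hC a, (p.1 : G) • (Φ p : Ω) = Φ p := fun p => by
    change (p.1 : G) • (p.2 : G) • g p.1 • b = (p.2 : G) • g p.1 • b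
    rw [smul_smul (p.1 : G), T_comm_U hC hexp p.2.2 (hge p.1 ▸
      mul_mem (mul_mem (hgU p.1) (R_mem_U hC hv)) (inv_mem (hgU p.1))), mul_smul]
    congr 1
    rw [← hge p.1, mul_smul, mul_smul, inv_smul_smul, hv.2.2]
  have hΦ : Function.Injective Φ := by
    intro p p' e
    have hw : p.1 = p'.1 := by
      obtain ⟨k, hk, hkc⟩ := hC.utrans b (Φ p) hb (Φ p).2
      have hone : ∀ {w : V}, (w : G) • (Φ p : Ω) = Φ p → (w : G) = k * v * k⁻¹ := by
        intro w hw
        have hwU : (w : G) ∈ U :=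
          hge w ▸ mul_mem (mul_mem (hgU w) (R_mem_U hC hv)) (inv_mem (hgU w))
        have hw1 : (w : G) ≠ 1 := fun h => hv1 (conj_eq_one_iff.mp ((hge w).trans h))
        have hr : k⁻¹ * w * k ∈ R hC a b := by
          refine ⟨?_, ?_, ?_⟩
          · exact isTwo_of_mem hC hexp (mul_mem (mul_mem (inv_mem hk) hwU) hk)
          · exact hC.le (mul_mem (mul_mem (inv_mem hk) hwU) hk)
          · rw [mul_smul, mul_smul, hkc, hw, inv_smul_eq_iff, hkc]
        rcases R_two hC hexp hb hv hv1 hr with h | h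
        · refine absurd ?_ hw1
          calc (w : G) = k * (k⁻¹ * w * k) * k⁻¹ := by group
            _ = 1 := by rw [h, mul_one, mul_inv_cancel]
        · calc (w : G) = k * (k⁻¹ * w * k) * k⁻¹ := by group
            _ = k * v * k⁻¹ := by rw [h]
      exact Subtype.ext ((hone (hwfix p)).trans (hone (w := p'.1) (by rw [e]; exact hwfix p')).symm)
    have e' := congrArg Subtype.val e
    change (p.2 : G) • g p.1 • b = (p'.2 : G) • g p'.1 • b at e'
    rw [← hw] at e'
    exact Prod.ext hw (Subtype.ext (T_smul_inj hC p.2.2 p'.2.2 (conj_ne hC hb (hgU p.1)) e'))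
  have hV : Nat.card V ≤ Nat.card (T hC a) * Nat.card (T hC a) := by
    have h1 := Nat.card_le_card_of_injective Φ hΦ
    haveI := Fintype.ofFinite Ω
    rw [Nat.card_prod, Nat.card_eq_fintype_card (α := {c : Ω // c ≠ a}), Fintype.card_subtype_compl,
      Fintype.card_subtype_eq, ← Nat.card_eq_fintype_card] at h1
    rw [(invol_facts hC hexp hvv hv1 hv.2.1 hb hv.2.2).2.1, Nat.add_sub_cancel, pow_succ, pow_two] at h1
    exact Nat.le_of_mul_le_mul_right h1 Nat.card_pos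
  -- the size of `A`
  have hA : Nat.card (T hC a) * Nat.card (T hC a) ≤ Nat.card (A hC hexp b) := by
    choose p hp hpfix using fun z : T hC a => exists_mem_P hC hexp hb hv hv1 z.2
    choose α hα r hr hpe using fun z : T hC a => P_decomp hC hexp hb hv hv1 (hp z)
    have hαfix : ∀ z : T hC a, ((z : G) * v) • α z • b = α z • b := fun z => by
      have h := hpfix z
      rwa [hpe z, mul_smul (α z), (hr z).2.2] at h
    rw [← Nat.card_prod]
    refine Nat.card_le_card_of_injective (fun q : (T hC a) × (T hC a) =>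
      (⟨α q.1 * q.2, mul_mem (hα q.1) (T_le_A hC hexp hb q.2.2)⟩ : A hC hexp b)) ?_
    rintro ⟨z, w⟩ ⟨z', w'⟩ e
    have e' : α z * w = α z' * w' := congrArg Subtype.val e
    have hfix : ∀ q w : T hC a, ((q : G) * v) • (α q * w) • b = (α q * w) • b := fun q w => by
      have hqv : (q : G) * v ∈ U := mul_mem (T_mem_U hC q.2) (R_mem_U hC hv)
      rw [T_comm_U hC hexp w.2 (hα q).1.1, smul_smul, ← mul_assoc, T_comm_U hC hexp w.2 hqv,
        mul_assoc, mul_smul, mul_smul (q * v : G), hαfix q, ← mul_smul]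
    have hzz : z = z' := by
      have hU' : α z * w ∈ U := mul_mem (hα z).1.1 (T_mem_U hC w.2)
      refine Subtype.ext (T_smul_inj hC z.2 z'.2 (c := v • (α z * w) • b)
        (fun h => conj_ne hC hb hU' (smul_left_cancel v (h.trans hv.2.1.symm))) ?_)
      rw [smul_smul (z : G), hfix z w, smul_smul (z' : G), e', hfix z' w']
    subst hzz
    exact Prod.ext rfl (Subtype.ext (mul_left_cancel e'))
  -- so they are all of them
  let f : A hC hexp b → V := fun α => ⟨(α : G) * v, by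
    obtain ⟨m, hm, e⟩ := hsurj α α.2
    exact ⟨m, hm.1, e⟩⟩
  have hf : Function.Injective f := fun α β e =>
    Subtype.ext (mul_right_cancel (congrArg Subtype.val e))
  have hbij : Function.Bijective f := (Nat.bijective_iff_injective_and_card f).mpr
    ⟨hf, le_antisymm (Nat.card_le_card_of_injective f hf) (hV.trans hA)⟩
  obtain ⟨⟨α, hα⟩, e⟩ := hbij.2 ⟨s * v * s⁻¹, s, hs, rfl⟩
  have e' : α * v = s * v * s⁻¹ := congrArg Subtype.val e
  obtain ⟨m, hm, hme⟩ := hsurj α hα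
  exact ⟨⟨m, hm, hme.trans e'⟩, by rw [← e', mul_assoc, hvv, mul_one]; exact hα⟩

/-- `M` is all of `U`. -/
theorem mem_M (hexp : SplitBender.SetupExists.{u}) {b : Ω} (hb : b ≠ a) {v : G}
    (hv : v ∈ R hC a b) (hv1 : v ≠ 1) {s : G} (hs : s ∈ U) : s ∈ M hC b := by
  obtain ⟨⟨m, hm, e⟩, -⟩ := conj_mem_A hC hexp hb hv hv1 hs
  have hc : Commute (m⁻¹ * s) v := by
    refine mul_inv_eq_iff_eq_mul.mp ?_
    calc m⁻¹ * s * v * (m⁻¹ * s)⁻¹ = m⁻¹ * (s * v * s⁻¹) * m := by group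
      _ = v := by rw [← e]; group
  have h1 := P_le_M hC (N1_le_P hC hexp hb
    (mem_N1_of_commute hC hexp hb hv hv1 (mul_mem (inv_mem hm.1) hs) hc.eq))
  have h2 := mul_mem hm h1
  rwa [mul_inv_cancel_left] at h2

/-- `A` is normal in `U` with elementary abelian quotient. -/
theorem sq_mem_A (hexp : SplitBender.SetupExists.{u}) {b : Ω} (hb : b ≠ a) {v : G}
    (hv : v ∈ R hC a b) (hv1 : v ≠ 1) {s : G} (hs : s ∈ U) : s * s ∈ A hC hexp b := by
  have hvv := R_sq hC hexp hb v hv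
  have hvi : v⁻¹ = v := inv_eq_of_mul_eq_one_right hvv
  have habel : ∀ α ∈ A hC hexp b, ∀ β ∈ A hC hexp b, α * β = β * α := by
    intro α hα β hβ
    have h1 := inverts hC hexp hb hv hv1 (mul_mem hα hβ)
    rw [← conj_mul, inverts hC hexp hb hv hv1 hα, inverts hC hexp hb hv hv1 hβ, ← mul_inv_rev] at h1
    exact (inv_injective h1).symm
  -- squares in `A` lie in `T`
  have hsq : ∀ α ∈ A hC hexp b, α * α ∈ T hC a := by
    obtain ⟨β, hβ, hβT⟩ := exists_mem_A hC hexp hb hv hv1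
    obtain ⟨k, hk⟩ := isTwo_of_mem hC hexp hβ.1.1
    classical
    have hex : ∃ l, β ^ 2 ^ l ∈ T hC a := ⟨k, by rw [hk]; exact one_mem _⟩
    obtain ⟨l, hl⟩ : ∃ l, Nat.find hex = l + 1 := Nat.exists_eq_succ_of_ne_zero fun h0 => hβT (by
      have := Nat.find_spec hex
      rwa [h0, pow_zero, pow_one] at this)
    have h2 := Nat.find_spec hex
    rw [hl, pow_succ, pow_mul, pow_two] at h2
    have hβ'T : β ^ 2 ^ l ∉ T hC a := Nat.find_min hex (by omega)
    intro α hα
    by_cases hαT : α ∈ T hC a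
    · exact mul_mem hαT hαT
    obtain ⟨y, hy, z, hz, rfl⟩ := exists_isE_A hC hexp hb hv hv1 (pow_mem hβ _) hβ'T hα hαT
    set β' := β ^ 2 ^ l with hβ'
    have hzc := T_comm_U hC hexp hz (hy.conj_U hC (show β' ∈ U from (pow_mem hβ _ : β' ∈ A hC hexp b).1.1))
    have e : y * β' * y⁻¹ * z * (y * β' * y⁻¹ * z) = y * (β' * β') * y⁻¹ * (z * z) := by
      calc y * β' * y⁻¹ * z * (y * β' * y⁻¹ * z)
          = y * β' * y⁻¹ * (z * (y * β' * y⁻¹)) * z := by group
        _ = y * (β' * β') * y⁻¹ * (z * z) := by rw [← hzc]; group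
    rw [e, sq_T hC hz, mul_one]
    exact conj_mem_T hC hy.1 h2
  have hρ := (conj_mem_A hC hexp hb hv hv1 hs).2
  set ρ := s * v * s⁻¹ * v with hρdef
  have hsM := mem_M hC hexp hb hv hv1 hs
  have hss : s * s ∈ P hC b := by
    refine mem_P_of_conj hC hexp hb hv hv1 (mul_mem hs hs)
      ⟨(ρ * s * ρ⁻¹ * s⁻¹)⁻¹ * (ρ * ρ), mul_mem (inv_mem (hρ.2 s hsM)) (hsq ρ hρ), v, hv, ?_⟩
    calc s * s * v * (s * s)⁻¹ = s * ρ * v⁻¹ * s⁻¹ := by rw [hρdef]; group
      _ = s * ρ * v * s⁻¹ := by rw [hvi]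
      _ = s * ρ * s⁻¹ * (s * v * s⁻¹) := by group
      _ = s * ρ * s⁻¹ * (ρ * v⁻¹) := by
          rw [show ρ * v⁻¹ = s * v * s⁻¹ from mul_inv_cancel_right _ _]
      _ = (ρ * s * ρ⁻¹ * s⁻¹)⁻¹ * (ρ * ρ) * v⁻¹ := by group
      _ = (ρ * s * ρ⁻¹ * s⁻¹)⁻¹ * (ρ * ρ) * v := by rw [hvi]
  obtain ⟨α, hα, r, hr, e⟩ := P_decomp hC hexp hb hv hv1 hss
  rcases R_two hC hexp hb hv hv1 hr with h | h
  · rw [e, h, mul_one]; exact hα
  exfalso
  rw [h] at e
  by_cases hsP : s ∈ P hC b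
  · obtain ⟨α', hα', r', hr', e'⟩ := P_decomp hC hexp hb hv hv1 hsP
    have hssA : s * s ∈ A hC hexp b := by
      rcases R_two hC hexp hb hv hv1 hr' with h' | h'
      · rw [h', mul_one] at e'; rw [e']; exact mul_mem hα' hα'
      · rw [h'] at e'
        have h3 : v * α' * v = α'⁻¹ := by
          have := inverts hC hexp hb hv hv1 hα'
          rwa [hvi] at this
        rw [e', show α' * v * (α' * v) = α' * (v * α' * v) by group, h3, mul_inv_cancel]
        exact one_mem _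
    have hvA : v ∈ A hC hexp b := by
      have := mul_mem (inv_mem hα) hssA
      rwa [e, inv_mul_cancel_left] at this
    exact hv1 (T_inf_R hC hb (A_inf_N1 hC hexp hb hvA (R_le_N1 hC b hv)) hv.2.2)
  · refine hsP (mem_P_of_conj hC hexp hb hv hv1 hs
      ⟨α * s * α⁻¹ * s⁻¹, hα.2 s hsM, v, hv, ?_⟩)
    have h4 : α * v = s * (α * v) * s⁻¹ := by rw [← e]; group
    calc s * v * s⁻¹ = (s * α⁻¹ * s⁻¹) * (s * (α * v) * s⁻¹) := by group
      _ = (s * α⁻¹ * s⁻¹) * α * v := by rw [← h4]; group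
      _ = α * (s * α⁻¹ * s⁻¹) * v := by
          rw [habel _ (conj_A_of_mem_M hC hexp hb hsM (inv_mem hα)) α hα]
      _ = α * s * α⁻¹ * s⁻¹ * v := by group

/-- The 2-elements fixing two points are trivial. -/
theorem R_eq_bot (hexp : SplitBender.SetupExists.{u}) {b : Ω} (hb : b ≠ a) : R hC a b = ⊥ := by
  classical
  haveI := finite_omega hC
  haveI : Fact (Nat.Prime 2) := ⟨Nat.prime_two⟩
  haveI := hC.simple
  by_contra hne
  obtain ⟨v, hv, hv1⟩ : ∃ v ∈ R hC a b, v ≠ 1 := by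
    by_contra h
    push Not at h
    exact hne ((R hC a b).eq_bot_iff_forall.mpr h)
  have hvv := R_sq hC hexp hb v hv
  have hvi : v⁻¹ = v := inv_eq_of_mul_eq_one_right hvv
  have hvU := R_mem_U hC hv
  set A0 := A hC hexp b with hA0
  have hA0U : A0 ≤ U := fun _ h => h.1.1
  have hvA : v ∉ A0 := fun h =>
    hv1 (T_inf_R hC hb (A_inf_N1 hC hexp hb h (R_le_N1 hC b hv)) hv.2.2)
  obtain ⟨M0, hM0⟩ := (Set.toFinite {X : Subgroup G | A0 ≤ X ∧ X ≤ U ∧ v ∉ X}).exists_maximal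
    ⟨A0, le_rfl, hA0U, hvA⟩
  obtain ⟨hAM0, hM0U, hvM0⟩ := hM0.1
  -- it has index two
  have hsq : ∀ s ∈ U, s * s ∈ A0 := fun s hs => sq_mem_A hC hexp hb hv hv1 hs
  have hnorm : ∀ s ∈ U, ∀ g ∈ M0, s * g * s⁻¹ ∈ M0 := by
    intro s hs g hg
    have hgU := hM0U hg
    have hc : s * g * s⁻¹ * g⁻¹ ∈ A0 := by
      have e : s * g * s⁻¹ * g⁻¹ =
          s * g * (s * g) * (g⁻¹ * s⁻¹ * g * (g⁻¹ * s⁻¹ * g)) * (g⁻¹ * g⁻¹) := by group
      rw [e]
      exact mul_mem (mul_mem (hsq _ (mul_mem hs hgU))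
        (hsq _ (mul_mem (mul_mem (inv_mem hgU) (inv_mem hs)) hgU))) (hsq _ (inv_mem hgU))
    have := mul_mem (hAM0 hc) hg
    rwa [inv_mul_cancel_right] at this
  have hout : ∀ s ∈ U, s ∉ M0 → s * v ∈ M0 := by
    intro s hs hsM
    let X : Subgroup G :=
      { carrier := {g | g ∈ M0 ∨ s * g ∈ M0}
        one_mem' := Or.inl (one_mem _)
        mul_mem' := by
          rintro g h (hg | hg) (hh | hh)
          · exact Or.inl (mul_mem hg hh)
          · right
            rw [show s * (g * h) = s * g * s⁻¹ * (s * h) by group]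
            exact mul_mem (hnorm s hs g hg) hh
          · right
            rw [← mul_assoc]
            exact mul_mem hg hh
          · left
            have h1 := hnorm s⁻¹ (inv_mem hs) _ hg
            rw [inv_inv] at h1
            have h2 := mul_mem (mul_mem (inv_mem (hAM0 (hsq s hs))) (hnorm s hs _ hg)) hh
            rwa [show (s * s)⁻¹ * (s * (s * g) * s⁻¹) * (s * h) = g * h by group] at h2
        inv_mem' := by
          rintro g (hg | hg)
          · exact Or.inl (inv_mem hg)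
          · right
            have h1 := mul_mem (inv_mem hg) (hAM0 (hsq s hs))
            have h2 := hnorm s hs _ h1
            rwa [show s * ((s * g)⁻¹ * (s * s)) * s⁻¹ = s * g⁻¹ by group] at h2 }
    by_contra hsv
    have hle : M0 ≤ X := fun g hg => Or.inl hg
    have hXU : X ≤ U := by
      rintro g (hg | hg)
      · exact hM0U hg
      · have := mul_mem (inv_mem hs) (hM0U hg)
        rwa [inv_mul_cancel_left] at this
    have hvX : v ∉ X := by
      rintro (h | h)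
      · exact hvM0 h
      · exact hsv h
    have hsX : s ∈ X := Or.inr (hAM0 (hsq s hs))
    exact hsM (hM0.2 ⟨hAM0.trans hle, hXU, hvX⟩ hle hsX)
  have hp : IsPGroup 2 U := fun x => by
    obtain ⟨k, hk⟩ := isTwo_of_mem hC hexp x.2
    exact ⟨k, Subtype.ext hk⟩
  obtain ⟨S, hS⟩ := hp.exists_le_sylow
  have hSU : (S : Subgroup G) = U := by
    refine le_antisymm ?_ hS
    obtain ⟨p, hpfix⟩ := S.isPGroup'.nonempty_fixed_point_of_prime_not_dvd_card Ω (by
      intro h
      obtain ⟨m, hm⟩ := hC.odd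
      omega)
    have hpa : p = a := by
      by_contra hpa
      obtain ⟨k, hk, hkb⟩ := hC.utrans p b hpa hb
      have hpb : p = b := by rw [← hkb]; exact (hpfix ⟨k, hS hk⟩).symm
      obtain ⟨z, hz⟩ := exists_isC hC a
      have h1 : z • b = b := by
        rw [← hpb]
        exact hpfix ⟨z, hS (C_mem hC hz)⟩
      exact hb (C_fix hC hz h1)
    intro g hg
    have hga : g • a = a := by
      rw [← hpa]
      exact hpfix ⟨g, hg⟩
    obtain ⟨k, hk⟩ := S.isPGroup' ⟨g, hg⟩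
    exact hC.two g hga ⟨k, congrArg Subtype.val hk⟩
  have hidx : M0.relIndex (S : Subgroup G) = 2 := by
    rw [hSU, Subgroup.relIndex, Subgroup.index_eq_two_iff]
    refine ⟨⟨v, hvU⟩, fun ⟨g, hg⟩ => ?_⟩
    change Xor (g * v ∈ M0) (g ∈ M0)
    by_cases hgM : g ∈ M0
    · refine Or.inr ⟨hgM, fun h => hvM0 ?_⟩
      have := mul_mem (inv_mem hgM) h
      rwa [inv_mul_cancel_left] at this
    · exact Or.inl ⟨hout g hg hgM, hgM⟩
  rcases CfsgLib.Fusion.ThompsonTransfer.thompson_transfer S M0 (hSU.symm ▸ hM0U) hidx v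
    (by rw [pow_two]; exact hvv) (hS hvU) hvM0 with ⟨N, hN, hN2, hvN⟩ | ⟨g, hg⟩
  · haveI := hN
    rcases IsSimpleGroup.eq_bot_or_eq_top_of_normal N inferInstance with h | h
    · rw [h, Subgroup.index_bot] at hN2
      have h3 := three_le_card_C hC
      have h4 : Nat.card {z : G // IsC z a} ≤ Nat.card G :=
        Nat.card_le_card_of_injective Subtype.val Subtype.val_injective
      omega
    · exact hvN (h ▸ Subgroup.mem_top v)
  · -- the conjugate of `v` is a conjugate under `U`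
    have hga : (g * v * g⁻¹) • a = a := hC.le (hM0U hg)
    rw [mul_smul, mul_smul, smul_eq_iff_eq_inv_smul] at hga
    obtain ⟨g', hg'a, hg'v⟩ : ∃ g' : G, g' • a = a ∧ g' * v * g'⁻¹ = g * v * g⁻¹ := by
      by_cases hc : g⁻¹ • a = a
      · exact ⟨g, (inv_smul_eq_iff.mp hc).symm, rfl⟩
      obtain ⟨i, hi, -⟩ := exists_swap_fixed hC (Ne.symm hc)
      have hiv : v * i = i * v :=
        swap_commute hC (Ne.symm hc) ⟨hv.1, hv.2.1, hga⟩ hi
      refine ⟨g * i, by rw [mul_smul, hi.2, smul_inv_smul], ?_⟩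
      calc g * i * v * (g * i)⁻¹ = g * (i * v) * i⁻¹ * g⁻¹ := by group
        _ = g * v * g⁻¹ := by rw [← hiv]; group
    obtain ⟨s, hs, hsb⟩ := hC.utrans b (g' • b) hb
      (fun e => hb (smul_left_cancel g' (e.trans hg'a.symm)))
    have hsa : s • a = a := hC.le hs
    have hd : (s⁻¹ * g') * v * (s⁻¹ * g')⁻¹ ∈ R hC a b := by
      have h1 := conj_mem_R hC hv (s⁻¹ * g')
      rw [mul_smul _ g' a, hg'a, inv_smul_eq_iff.mpr hsa.symm, mul_smul _ g' b, ← hsb,
        inv_smul_smul] at h1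
      exact h1
    rcases R_two hC hexp hb hv hv1 hd with h | h
    · exact hv1 (conj_eq_one_iff.mp h)
    · have e : g * v * g⁻¹ = s * v * s⁻¹ := by
        rw [← hg'v]
        calc g' * v * g'⁻¹ = s * (s⁻¹ * g' * v * (s⁻¹ * g')⁻¹) * s⁻¹ := by group
          _ = s * v * s⁻¹ := by rw [h]
      rw [e] at hg
      have h2 := mul_mem (inv_mem hg) (hAM0 (conj_mem_A hC hexp hb hv hv1 hs).2)
      rw [inv_mul_cancel_left] at h2
      exact hvM0 h2

/-- No involution fixes two points. -/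
theorem no_two (hexp : SplitBender.SetupExists.{u}) {p q : Ω} (hpq : p ≠ q) : R hC p q = ⊥ := by
  obtain ⟨b, hb⟩ := hC.ne
  have h := card_R_eq hC hpq hb.symm
  rw [R_eq_bot hC hexp hb, Subgroup.card_bot] at h
  exact Subgroup.card_eq_one.mp h

end CfsgLib.RankOne.StrongSplit
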