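import Cfsg.Agent.Lib.RankOne.StrongSplit.Kill
import Cfsg.Agent.Lib.BNPair.Basic

/-!
# A strongly split (B,N)-pair of rank one of odd index

In a finite simple group with such a pair, whose torus has odd order, the Borel subgroup is strongly
embedded.
-/

set_option autoImplicit false
set_option linter.style.haveILetI false

open Cfsg

namespace CfsgLib.RankOne.StrongSplit

open MulAction
open CfsgLib.BNPair.Exchange CfsgLib.BNPair.Basic

universe u

variable {G : Type u} [Group G] (Pr : Cfsg.BNPair G)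

/-- In rank one `G = B ∪ B s B`. -/
theorem exists_cases (hrank : Pr.rank = 1) :
    ∃ s ∈ Pr.S, ∀ g : G, g ∉ Pr.B → ∃ b ∈ Pr.B, ∃ b' ∈ Pr.B, g = b * s * b' := by
  obtain ⟨hsub, ⟨s⟩⟩ := Nat.card_eq_one_iff_unique.mp (hrank : Nat.card Pr.S = 1)
  refine ⟨s, s.2, fun g hg => ?_⟩
  obtain ⟨w, hw⟩ := exists_mem_cell Pr g
  have hw1 : w = 1 ∨ w = σ Pr s := by
    have hmem : w ∈ WJ Pr Pr.S := (WJ_S Pr).symm ▸ Subgroup.mem_top w
    clear hw
    unfold WJ at hmem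
    induction hmem using Subgroup.closure_induction with
    | mem x hx =>
      obtain ⟨s', -, rfl⟩ := hx
      exact Or.inr (congrArg (σ Pr) (Subsingleton.elim s' s))
    | one => exact Or.inl rfl
    | mul x y _ _ hx hy =>
      rcases hx with rfl | rfl <;> rcases hy with rfl | rfl
      · exact Or.inl (one_mul 1)
      · exact Or.inr (one_mul _)
      · exact Or.inr (mul_one _)
      · exact Or.inl (σ_mul_self Pr s)
    | inv x _ hx =>
      rcases hx with rfl | rfl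
      · exact Or.inl inv_one
      · exact Or.inr (inv_eq_of_mul_eq_one_right (σ_mul_self Pr s))
  rcases hw1 with rfl | rfl
  · exact absurd ((mem_cell_one Pr).mp hw) hg
  · have h : g ∈ DoubleCoset.doubleCoset (s : G) (Pr.B : Set G) Pr.B := by
      rw [← show cell Pr (σ Pr s) = _ from cell_proj Pr (sN Pr s)]
      exact hw
    exact DoubleCoset.mem_doubleCoset.mp h

/-- The Borel subgroup is strongly embedded. -/
theorem stronglyEmbedded_B (hexp : SplitBender.SetupExists.{u}) [Finite G] [IsSimpleGroup G]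
    (hrank : Pr.rank = 1) {U : Subgroup G} (hUB : U ≤ Pr.B)
    (hUn : (U.subgroupOf Pr.B).Normal) (hUnil : Group.IsNilpotent U)
    (hsplit : U ⊔ (Pr.B ⊓ Pr.N) = Pr.B) (hind : Odd Pr.B.index)
    (hH : Odd (Nat.card ↥(Pr.B ⊓ Pr.N))) : IsStronglyEmbedded Pr.B := by
  haveI : Fact (Nat.Prime 2) := ⟨Nat.prime_two⟩
  obtain ⟨s, hs, hcase⟩ := exists_cases Pr hrank
  have hsB : s ∉ Pr.B := notMem_B_of_mem_S Pr hs
  have hstab : stabilizer G ((1 : G) : G ⧸ Pr.B) = Pr.B := MulAction.stabilizer_quotient Pr.B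
  have hfix : ∀ {g : G}, g ∈ Pr.B ↔ g • ((1 : G) : G ⧸ Pr.B) = ((1 : G) : G ⧸ Pr.B) := fun {g} => by
    conv_lhs => rw [← hstab]
    exact Iff.rfl
  have hnorm : ∀ b ∈ Pr.B, ∀ x ∈ U, b * x * b⁻¹ ∈ U := fun b hb x hx =>
    hUn.conj_mem ⟨x, hUB hx⟩ hx ⟨b, hb⟩
  have hdec : ∀ b ∈ Pr.B, ∃ x ∈ U, ∃ h ∈ Pr.B ⊓ Pr.N, b = x * h := by
    intro b hb
    have hle : Pr.B ⊓ Pr.N ≤ Subgroup.normalizer (U : Set G) := fun h hh =>
      mem_normalizer_of_le fun x hx => hnorm h hh.1 x hx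
    rw [← hsplit, ← SetLike.mem_coe, Subgroup.coe_mul_of_right_le_normalizer_left _ _ hle] at hb
    obtain ⟨x, hx, h, hh, rfl⟩ := hb
    exact ⟨x, hx, h, hh, rfl⟩
  have hpt : ∀ g : G, g ∉ Pr.B → ∃ x ∈ U, (g : G ⧸ Pr.B) = (x * s : G) := by
    intro g hg
    obtain ⟨b, hb, b', hb', rfl⟩ := hcase g hg
    obtain ⟨x, hx, h, hh, rfl⟩ := hdec b hb
    refine ⟨x, hx, QuotientGroup.eq.mpr ?_⟩
    have h2 : s⁻¹ * h⁻¹ * s ∈ Pr.B := by
      have := Pr.conj_mem s⁻¹ (inv_mem (Pr.subset hs)) h⁻¹ (inv_mem hh)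
      rwa [inv_inv] at this
    rw [show (x * h * s * b')⁻¹ * (x * s) = b'⁻¹ * (s⁻¹ * h⁻¹ * s) by group]
    exact mul_mem (inv_mem hb') h2
  have hne : ((s : G) : G ⧸ Pr.B) ≠ ((1 : G) : G ⧸ Pr.B) := fun h => by
    rw [QuotientGroup.eq, mul_one] at h
    exact hsB (inv_mem_iff.mp h)
  have hodd : Odd (Nat.card (G ⧸ Pr.B)) := hind
  have hutrans : ∀ p q : G ⧸ Pr.B, p ≠ ((1 : G) : G ⧸ Pr.B) → q ≠ ((1 : G) : G ⧸ Pr.B) →
      ∃ x ∈ U, x • p = q := by
    intro p q hp hq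
    have key : ∀ p : G ⧸ Pr.B, p ≠ ((1 : G) : G ⧸ Pr.B) →
        ∃ x ∈ U, p = x • ((s : G) : G ⧸ Pr.B) := by
      intro p hp
      induction p using QuotientGroup.induction_on with
      | H g =>
        obtain ⟨x, hx, e⟩ := hpt g fun h => hp (by
          rw [QuotientGroup.eq, mul_one]; exact inv_mem h)
        exact ⟨x, hx, by rw [e]; rfl⟩
    obtain ⟨x, hx, rfl⟩ := key p hp
    obtain ⟨y, hy, rfl⟩ := key q hq
    exact ⟨y * x⁻¹, mul_mem hy (inv_mem hx), by rw [mul_smul, inv_smul_smul]⟩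
  have hC : Config G ((1 : G) : G ⧸ Pr.B) U := by
    refine ⟨SplitBender.faithful_of_core (SplitBender.core_eq_bot_of_simple fun h =>
        hsB (h ▸ Subgroup.mem_top s)), ?_, hodd, ⟨_, hne⟩, fun x hx => hfix.mp (hUB hx),
      fun h hh x hx => hnorm h (hfix.mpr hh) x hx, hUnil, hutrans, ?_, inferInstance⟩
    · refine is_two_pretransitive_iff.mpr fun {p q r t} hpq hrt => ?_
      have htrans : ∀ p : G ⧸ Pr.B, ∃ g : G, g • ((1 : G) : G ⧸ Pr.B) = p := fun p => by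
        induction p using QuotientGroup.induction_on with
        | H g => exact ⟨g, show ((g * 1 : G) : G ⧸ Pr.B) = g by rw [mul_one]⟩
      obtain ⟨g, rfl⟩ := htrans p
      obtain ⟨h, rfl⟩ := htrans r
      obtain ⟨x, hx, hxe⟩ := hutrans (g⁻¹ • q) (h⁻¹ • t)
        (fun e => hpq (by rw [← inv_smul_eq_iff.mp e]))
        (fun e => hrt (by rw [← inv_smul_eq_iff.mp e]))
      refine ⟨h * x * g⁻¹, ?_, ?_⟩
      · rw [mul_smul, mul_smul, inv_smul_smul, hfix.mp (hUB hx)]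
      · rw [mul_smul, mul_smul, hxe, smul_inv_smul]
    · intro g hg ⟨k, hk⟩
      have hgB : g ∈ Pr.B := hfix.mpr hg
      obtain ⟨x, hx, h, hh, e⟩ := hdec g hgB
      haveI := hUn
      let π := QuotientGroup.mk' (U.subgroupOf Pr.B)
      let hB : (Pr.B ⊓ Pr.N : Subgroup G) →* Pr.B := Subgroup.inclusion inf_le_left
      have h1 : π ⟨g, hgB⟩ = π (hB ⟨h, hh⟩) := by
        have : (⟨g, hgB⟩ : Pr.B) = ⟨x, hUB hx⟩ * hB ⟨h, hh⟩ := Subtype.ext e
        rw [this, map_mul, show π ⟨x, hUB hx⟩ = 1 from (QuotientGroup.eq_one_iff _).mpr hx, one_mul]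
      have h2 : orderOf (π ⟨g, hgB⟩) ∣ 2 ^ k :=
        orderOf_dvd_of_pow_eq_one (by rw [← map_pow, show (⟨g, hgB⟩ : Pr.B) ^ 2 ^ k = 1 from Subtype.ext hk, map_one])
      have h3 : orderOf (π ⟨g, hgB⟩) ∣ Nat.card ↥(Pr.B ⊓ Pr.N) := by
        rw [h1]
        exact (orderOf_map_dvd (π.comp hB) _).trans (orderOf_dvd_natCard _)
      have h4 : π ⟨g, hgB⟩ = 1 := orderOf_eq_one_iff.mp
        (Nat.eq_one_of_dvd_coprimes ((Nat.coprime_two_left.mpr hH).pow_left k) h2 h3)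
      exact (QuotientGroup.eq_one_iff (⟨g, hgB⟩ : Pr.B)).mp h4
  refine ⟨fun h => hsB (h ▸ Subgroup.mem_top s),
    even_iff_two_dvd.mpr ((even_U hC).trans (Subgroup.card_dvd_of_le hUB)), fun g hg => ?_⟩
  by_contra hev
  obtain ⟨⟨x, hx⟩, hxo⟩ := exists_prime_orderOf_dvd_card' 2
    (even_iff_two_dvd.mp (Nat.not_odd_iff_even.mp hev))
  rw [Subgroup.orderOf_mk] at hxo
  obtain ⟨hx1, y, hy, e⟩ := Subgroup.mem_inf.mp hx
  rw [MulEquiv.coe_toMonoidHom, MulAut.conj_apply] at e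
  have hga : g • ((1 : G) : G ⧸ Pr.B) ≠ ((1 : G) : G ⧸ Pr.B) := fun h => hg (hfix.mpr h)
  have hxR : x ∈ R hC ((1 : G) : G ⧸ Pr.B) (g • ((1 : G) : G ⧸ Pr.B)) := by
    refine ⟨⟨1, by rw [pow_one, ← hxo]; exact pow_orderOf_eq_one x⟩, hfix.mp hx1, ?_⟩
    rw [← e, mul_smul, mul_smul, inv_smul_smul, hfix.mp hy]
  rw [no_two hC hexp hga.symm, Subgroup.mem_bot] at hxR
  rw [hxR, orderOf_one] at hxo
  exact absurd hxo (by norm_num)

end CfsgLib.RankOne.StrongSplit
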