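import Cfsg.Agent.Lib.RankOne.StrongSplit.Block

/-!
# Products of two class involutions exchanging a pair, and the lines normalised by the first step

`IsE b y`: `y` fixes `a` and `b` and centralises `R a b`. These permute the class involutions at `a`
transitively and one of prime order has no fixed points in `U` off `R a b`. `N1` is `T R`; `mem_P` is
its normaliser in `U`, which centralises `N1 / T`.
-/

set_option autoImplicit false
set_option linter.style.haveILetI false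

open Cfsg

namespace CfsgLib.RankOne.StrongSplit

open MulAction

universe u v

variable {G : Type u} {Ω : Type v} [Group G] [MulAction G Ω] [Finite G] {a : Ω} {U : Subgroup G}
  (hC : Config G a U)
include hC

/-- An element fixing the pair and centralising its 2-elements. -/
def IsE (b : Ω) (y : G) : Prop := y • a = a ∧ y • b = b ∧ ∀ r ∈ R hC a b, y * r = r * y

theorem IsE.inv {b : Ω} {y : G} (h : IsE hC b y) : IsE hC b y⁻¹ :=
  ⟨inv_smul_eq_iff.mpr h.1.symm, inv_smul_eq_iff.mpr h.2.1.symm, fun r hr =>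
    ((show Commute y r from h.2.2 r hr).inv_left).eq⟩

theorem swap_mul_isE {b : Ω} (hb : b ≠ a) {i j : G} (hi : i ∈ swaps G a b) (hj : j ∈ swaps G a b) :
    IsE hC b (i * j) :=
  ⟨by rw [mul_smul, hj.2, swaps_symm hC hi], by rw [mul_smul, swaps_symm hC hj, hi.2], fun r hr => by
    rw [mul_assoc, ← swap_commute hC hb.symm hr hj, ← mul_assoc, ← swap_commute hC hb.symm hr hi,
      mul_assoc]⟩

theorem conj_mem_T {y : G} (hy : y • a = a) {z : G} (hz : z ∈ T hC a) : y * z * y⁻¹ ∈ T hC a := by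
  rcases hz with e | e
  · exact Or.inl (by rw [e, mul_one, mul_inv_cancel])
  · have := e.conj y
    rw [hy] at this
    exact Or.inr this

/-- They permute the class involutions at the fixed point transitively. -/
theorem isE_trans {b : Ω} (hb : b ≠ a) {v w : G} (hv : IsC v a) (hw : IsC w a) :
    ∃ y : G, IsE hC b y ∧ y * v * y⁻¹ = w := by
  obtain ⟨i, hi, -⟩ := exists_swap_fixed hC hb.symm
  have hib := hw.conj i
  rw [hi.2] at hib
  obtain ⟨j, ⟨hj, hjv⟩, -⟩ := existsUnique_swap hC hb.symm hv hib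
  obtain ⟨c, hc⟩ := hi.1
  have hii : i⁻¹ = i := inv_eq_of_mul_eq_one_right hc.2.1
  refine ⟨i * j, swap_mul_isE hC hb hi hj, ?_⟩
  calc i * j * v * (i * j)⁻¹ = i * (j * v * j⁻¹) * i⁻¹ := by group
    _ = (i * i) * w * (i⁻¹ * i⁻¹) := by rw [hjv]; group
    _ = w := by rw [hii, hc.2.1, one_mul, mul_one]

/-- One of them of odd prime order commutes only with the elements of `U` fixing `b`. -/
theorem exists_isE_free (hexp : SplitBender.SetupExists.{u}) {b : Ω} (hb : b ≠ a)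
    (hR : R hC a b ≠ ⊥) :
    ∃ (r : ℕ) (y : G), r.Prime ∧ r ≠ 2 ∧ IsE hC b y ∧ y ^ r = 1 ∧
      ∀ s ∈ U, s * y = y * s → s • b = b := by
  haveI := finite_omega hC
  haveI : Nontrivial (swaps G a b) := Finite.one_lt_card_iff_nontrivial.mp (by
    rw [card_swaps hC hb.symm, card_C_eq hC b]
    have := three_le_card_C hC
    omega)
  obtain ⟨⟨i, hi⟩, ⟨j, hj⟩, hne⟩ := exists_pair_ne (swaps G a b)
  obtain ⟨c, hci⟩ := hi.1
  obtain ⟨d, hdj⟩ := hj.1
  have hij : i ≠ j := fun e => hne (Subtype.ext e)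
  have hcd : c ≠ d := by
    rintro rfl
    have h1 := C_fix hC (C_mul hC hci hdj hij) (show (i * j) • a = a by
      rw [mul_smul, hj.2, swaps_symm hC hi])
    have h2 := hi.2
    rw [h1, hci.2.2.1] at h2
    exact hb (h1.trans h2).symm
  set x := i * j with hx
  obtain ⟨m, hm⟩ := odd_mul hC hci hdj hcd
  have hii : i⁻¹ = i := inv_eq_of_mul_eq_one_right hci.2.1
  have hx1 : orderOf x ≠ 1 := fun e => hij (by
    rw [orderOf_eq_one_iff] at e
    rw [eq_inv_of_mul_eq_one_right e, hii])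
  obtain ⟨r, hr, hrdvd⟩ := Nat.exists_prime_and_dvd hx1
  have hr2 : r ≠ 2 := fun e => by rw [e, hx] at hrdvd; omega
  set k := orderOf x / r with hk
  set y := x ^ k with hy
  have hyr : orderOf y = r := orderOf_pow_orderOf_div (orderOf_pos x).ne' hrdvd
  have hxE := swap_mul_isE hC hb hi hj
  have hinv := Involution.Dihedral.conj_mul_left hci.orderOf_eq hdj.orderOf_eq
  -- `i * y` is again a class involution
  obtain ⟨e0, he0⟩ := hci.reflect hinv ((((m + 1) * k : ℕ)) : ℤ)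
  have hxy : x ^ (2 * ((((m + 1) * k : ℕ)) : ℤ)) = y := by
    rw [← Nat.cast_ofNat (R := ℤ), ← Nat.cast_mul, zpow_natCast, hy,
      show 2 * ((m + 1) * k) = orderOf x * k + k by rw [hx, hm]; ring, pow_add, pow_mul,
      pow_orderOf_eq_one, one_pow, one_mul]
  rw [hxy] at he0
  have hya : y • a = a := (pow_mem (show x ∈ stabilizer G a from hxE.1) k : y ∈ stabilizer G a)
  have hyb : y • b = b := (pow_mem (show x ∈ stabilizer G b from hxE.2.1) k : y ∈ stabilizer G b)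
  have hyE : IsE hC b y := ⟨hya, hyb, fun g hg =>
    ((show Commute x g from hxE.2.2 g hg).pow_left k).eq⟩
  have hj' : i * y ∈ swaps G a b := ⟨⟨e0, he0⟩, by rw [mul_smul, hya, hi.2]⟩
  have hiy : i * y * i⁻¹ = y⁻¹ := by rw [hy, ← _root_.conj_pow, hinv, inv_pow]
  have hfree : ∀ v, IsC v a → y * v * y⁻¹ ≠ v := by
    intro v hv he
    have hvi := hv.conj i
    rw [hi.2] at hvi
    obtain ⟨l, -, hl⟩ := existsUnique_swap hC hb.symm hv hvi
    have h1 := hl i ⟨hi, rfl⟩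
    have h2 := hl (i * y) ⟨hj', by
      calc i * y * v * (i * y)⁻¹ = i * (y * v * y⁻¹) * i⁻¹ := by group
        _ = i * v * i⁻¹ := by rw [he]⟩
    have h3 : y = 1 := left_eq_mul.mp (h1.trans h2.symm)
    rw [h3, orderOf_one] at hyr
    exact hr.one_lt.ne hyr
  have hfreeb : ∀ e, IsC e b → y * e * y⁻¹ ≠ e := by
    intro e he heq
    have hev := he.conj i
    rw [swaps_symm hC hi] at hev
    have hcm : Commute y e := mul_inv_eq_iff_eq_mul.mp heq
    have h1 : Commute (i * y * i⁻¹) (i * e * i⁻¹) := hcm.map (MulAut.conj i).toMonoidHom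
    rw [hiy, Commute.inv_left_iff] at h1
    exact hfree _ hev (mul_inv_eq_iff_eq_mul.mpr h1.eq)
  obtain ⟨v, hvR, hv1⟩ : ∃ v ∈ R hC a b, v ≠ 1 := by
    by_contra h
    push Not at h
    exact hR ((R hC a b).eq_bot_iff_forall.mpr h)
  have hvv := R_sq hC hexp hb v hvR
  obtain ⟨-, -, htr, -⟩ := invol_facts hC hexp hvv hv1 hvR.2.1 hb hvR.2.2
  have hline : ∀ f : Ω, f ≠ a → v • f = f → y • f = f → f = b := by
    intro f hfa hvf hyf
    obtain ⟨z, hz, hzb⟩ := htr f hfa hvf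
    have h1 : y * z * y⁻¹ = z := T_smul_inj hC (conj_mem_T hC hya hz) hz hb (by
      rw [mul_smul, mul_smul, inv_smul_eq_iff.mpr hyb.symm, hzb, hyf])
    rcases hz with e | e
    · rw [← hzb, e, one_smul]
    · exact absurd h1 (hfree z e)
  have hfix : ∀ c : Ω, c ≠ a → y • c = c → c = b := by
    intro c hca hyc
    by_contra hcb
    have hvc : v • c ≠ c := fun h => hcb (hline c hca h hyc)
    obtain ⟨f, e, he, hvf, hec⟩ := exists_decomp hC hvv hvc
    have hyv : y * v = v * y := hyE.2.2 v hvR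
    have hvf' : v • y • f = y • f := by rw [smul_smul, ← hyv, mul_smul, hvf]
    have hec' : (y * e * y⁻¹) • c = v • c := by
      rw [mul_smul, mul_smul, inv_smul_eq_iff.mpr hyc.symm, hec, smul_smul, hyv, mul_smul, hyc]
    have heq := decomp_unique hC hvv hvc he hvf hec (he.conj y) hvf' hec'
    have hyf : y • f = f := by
      have h1 := (he.conj y).2.2.1
      rw [← heq] at h1
      exact C_fix hC he h1
    by_cases hfa : f = a
    · subst hfa; exact hfree e he heq.symm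
    · have hfb := hline f hfa hvf hyf
      subst hfb
      exact hfreeb e he heq.symm
  refine ⟨r, y, hr, hr2, hyE, by rw [← hyr]; exact pow_orderOf_eq_one y, fun s hs hsy => ?_⟩
  have hsa : s • a = a := hC.le hs
  exact hfix _ (fun h => hb (smul_left_cancel s (h.trans hsa.symm)))
    (by rw [smul_smul, ← hsy, mul_smul, hyb])

/-- `T R`. -/
def N1 (b : Ω) : Subgroup G where
  carrier := {g | ∃ z ∈ T hC a, ∃ r ∈ R hC a b, g = z * r}
  one_mem' := ⟨1, one_mem _, 1, one_mem _, (one_mul 1).symm⟩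
  mul_mem' := by
    rintro _ _ ⟨z, hz, r, hr, rfl⟩ ⟨z', hz', r', hr', rfl⟩
    refine ⟨z * z', mul_mem hz hz', r * r', mul_mem hr hr', ?_⟩
    calc z * r * (z' * r') = z * (r * z') * r' := by group
      _ = z * z' * (r * r') := by rw [T_central hC hz' hr.1 hr.2.1]; group
  inv_mem' := by
    rintro _ ⟨z, hz, r, hr, rfl⟩
    refine ⟨z⁻¹, inv_mem hz, r⁻¹, inv_mem hr, ?_⟩
    rw [← mul_inv_rev, T_central hC hz hr.1 hr.2.1]

theorem T_le_N1 (b : Ω) {z : G} (hz : z ∈ T hC a) : z ∈ N1 hC b :=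
  ⟨z, hz, 1, one_mem _, (mul_one z).symm⟩

theorem R_le_N1 (b : Ω) {r : G} (hr : r ∈ R hC a b) : r ∈ N1 hC b :=
  ⟨1, one_mem _, r, hr, (one_mul r).symm⟩

theorem isTwo_T {z : G} (hz : z ∈ T hC a) : IsTwo z := by
  rcases hz with e | e
  · exact e ▸ isTwo_one
  · exact isTwo_of_sq e.2.1

theorem T_mem_U {z : G} (hz : z ∈ T hC a) : z ∈ U :=
  hC.two z (T_smul_self hC hz) (isTwo_T hC hz)

theorem R_mem_U {b : Ω} {r : G} (hr : r ∈ R hC a b) : r ∈ U := hC.two r hr.2.1 hr.1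

theorem N1_mem_U {b : Ω} {g : G} (hg : g ∈ N1 hC b) : g ∈ U := by
  obtain ⟨z, hz, r, hr, rfl⟩ := hg
  exact mul_mem (T_mem_U hC hz) (R_mem_U hC hr)

theorem T_comm_U (hexp : SplitBender.SetupExists.{u}) {z : G} (hz : z ∈ T hC a) {s : G} (hs : s ∈ U) :
    s * z = z * s :=
  T_central hC hz (isTwo_of_mem hC hexp hs) (hC.le hs)

/-- An element of `T` in `R` is trivial. -/
theorem T_inf_R {b : Ω} (hb : b ≠ a) {z : G} (hz : z ∈ T hC a) (hzb : z • b = b) : z = 1 :=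
  T_smul_inj hC hz (one_mem _) hb (by rw [hzb, one_smul])

theorem sq_T {z : G} (hz : z ∈ T hC a) : z * z = 1 := by
  rcases hz with e | e
  · rw [e, one_mul]
  · exact e.2.1

theorem R_comm (hexp : SplitBender.SetupExists.{u}) {b : Ω} (hb : b ≠ a) {r r' : G}
    (hr : r ∈ R hC a b) (hr' : r' ∈ R hC a b) : r * r' = r' * r := by
  have h1 := R_sq hC hexp hb _ (mul_mem hr hr')
  calc r * r' = (r * r')⁻¹ := eq_inv_of_mul_eq_one_left h1
    _ = r' * r := by
      rw [mul_inv_rev, inv_eq_of_mul_eq_one_right (R_sq hC hexp hb r hr),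
        inv_eq_of_mul_eq_one_right (R_sq hC hexp hb r' hr')]

theorem N1_comm (hexp : SplitBender.SetupExists.{u}) {b : Ω} (hb : b ≠ a) {g h : G}
    (hg : g ∈ N1 hC b) (hh : h ∈ N1 hC b) : g * h = h * g := by
  obtain ⟨z, hz, r, hr, rfl⟩ := hg
  obtain ⟨z', hz', r', hr', rfl⟩ := hh
  calc z * r * (z' * r') = z * (r * z') * r' := by group
    _ = (z * z') * (r * r') := by rw [T_central hC hz' hr.1 hr.2.1]; group
    _ = z' * (z * r') * r := by
        rw [R_comm hC hexp hb hr hr', T_central hC hz' (isTwo_T hC hz) (T_smul_self hC hz)]; group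
    _ = z' * r' * (z * r) := by rw [← T_central hC hz hr'.1 hr'.2.1]; group

/-- An element of `U` centralising a non-trivial element of `R` lies in `T R`. -/
theorem mem_N1_of_commute (hexp : SplitBender.SetupExists.{u}) {b : Ω} (hb : b ≠ a) {v : G}
    (hv : v ∈ R hC a b) (hv1 : v ≠ 1) {s : G} (hs : s ∈ U) (hsv : s * v = v * s) : s ∈ N1 hC b := by
  have hsa : s • a = a := hC.le hs
  obtain ⟨-, -, htr, -⟩ := invol_facts hC hexp (R_sq hC hexp hb v hv) hv1 hv.2.1 hb hv.2.2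
  obtain ⟨z, hz, hzb⟩ := htr (s • b) (fun h => hb (smul_left_cancel s (h.trans hsa.symm)))
    (by rw [smul_smul, ← hsv, mul_smul, hv.2.2])
  refine ⟨z, hz, z⁻¹ * s, ⟨isTwo_of_mem hC hexp (mul_mem (inv_mem (T_mem_U hC hz)) hs), ?_, ?_⟩,
    by group⟩
  · rw [mul_smul, hsa, inv_smul_eq_iff, T_smul_self hC hz]
  · rw [mul_smul, inv_smul_eq_iff, hzb]

/-- The normaliser of `T R` in `U`. -/
def P (b : Ω) : Subgroup G := U ⊓ Subgroup.normalizer ((N1 hC b : Subgroup G) : Set G)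

theorem P_le {b : Ω} {s : G} (hs : s ∈ P hC b) : s ∈ U := hs.1

theorem conj_N1_of_mem_P {b : Ω} {s n : G} (hs : s ∈ P hC b) (hn : n ∈ N1 hC b) :
    s * n * s⁻¹ ∈ N1 hC b :=
  (Subgroup.mem_normalizer_iff.mp hs.2 n).mp hn

omit hC in
theorem mem_normalizer_of_le {H : Subgroup G} {g : G} (h : ∀ x ∈ H, g * x * g⁻¹ ∈ H) :
    g ∈ Subgroup.normalizer (H : Set G) := by
  have hmap : H.map (MulAut.conj g).toMonoidHom = H :=
    Subgroup.eq_of_le_of_card_ge (Subgroup.map_le_iff_le_comap.mpr fun x hx => h x hx)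
      (by rw [Subgroup.card_map_of_injective (MulAut.conj g).injective])
  refine Subgroup.mem_normalizer_iff.mpr fun x => ⟨h x, fun hx => ?_⟩
  rw [← hmap] at hx
  obtain ⟨w, hw, e⟩ := hx
  rw [MulEquiv.coe_toMonoidHom, MulAut.conj_apply] at e
  have : x = w := mul_left_cancel (mul_right_cancel e.symm)
  rwa [this]

theorem mem_P_of_forall (hexp : SplitBender.SetupExists.{u}) {b : Ω} {s : G} (hs : s ∈ U)
    (h : ∀ r ∈ R hC a b, s * r * s⁻¹ ∈ N1 hC b) : s ∈ P hC b := by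
  refine ⟨hs, mem_normalizer_of_le ?_⟩
  rintro _ ⟨z, hz, r, hr, rfl⟩
  rw [show s * (z * r) * s⁻¹ = s * z * s⁻¹ * (s * r * s⁻¹) by group, T_comm_U hC hexp hz hs,
    mul_inv_cancel_right]
  exact mul_mem (T_le_N1 hC b hz) (h r hr)

theorem N1_le_P (hexp : SplitBender.SetupExists.{u}) {b : Ω} (hb : b ≠ a) {n : G}
    (hn : n ∈ N1 hC b) : n ∈ P hC b :=
  mem_P_of_forall hC hexp (N1_mem_U hC hn) fun r hr => by
    rw [N1_comm hC hexp hb hn (R_le_N1 hC b hr), mul_inv_cancel_right]; exact R_le_N1 hC b hr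

/-- If one conjugate of a non-trivial element of `R` lies in `T R` then so do all. -/
theorem mem_P_of_conj (hexp : SplitBender.SetupExists.{u}) {b : Ω} (hb : b ≠ a) {v : G}
    (hv : v ∈ R hC a b) (hv1 : v ≠ 1) {s : G} (hs : s ∈ U) (h : s * v * s⁻¹ ∈ N1 hC b) :
    s ∈ P hC b := by
  obtain ⟨z, hz, v', hv', e⟩ := h
  have hv'1 : v' ≠ 1 := by
    intro h1
    rw [h1, mul_one] at e
    have hzb : z • s • b = s • b := by rw [← e, mul_smul, mul_smul, inv_smul_smul, hv.2.2]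
    have hsb : s • b ≠ a := fun h => hb (smul_left_cancel s (h.trans (hC.le hs).symm))
    have hz1 := T_inf_R hC hsb hz hzb
    exact hv1 (conj_eq_one_iff.mp (e.trans hz1))
  refine mem_P_of_forall hC hexp hs fun r hr => ?_
  have hU : s * r * s⁻¹ ∈ U := mul_mem (mul_mem hs (R_mem_U hC hr)) (inv_mem hs)
  refine mem_N1_of_commute hC hexp hb hv' hv'1 hU ?_
  have h1 : Commute (s * r * s⁻¹) (s * v * s⁻¹) := by
    change s * r * s⁻¹ * (s * v * s⁻¹) = s * v * s⁻¹ * (s * r * s⁻¹)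
    rw [conj_mul, conj_mul, R_comm hC hexp hb hr hv]
  have h2 : Commute (s * r * s⁻¹) z := T_comm_U hC hexp hz hU
  have h3 : v' = z⁻¹ * (s * v * s⁻¹) := by rw [e, inv_mul_cancel_left]
  rw [h3]
  exact (h2.inv_right.mul_right h1).eq

/-- For every element of `T` some element of the normaliser moves `b` into that line. -/
theorem exists_mem_P (hexp : SplitBender.SetupExists.{u}) {b : Ω} (hb : b ≠ a) {v : G}
    (hv : v ∈ R hC a b) (hv1 : v ≠ 1) {z : G} (hz : z ∈ T hC a) :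
    ∃ s ∈ P hC b, (z * v) • s • b = s • b := by
  haveI := finite_omega hC
  have hvv := R_sq hC hexp hb v hv
  have hva := hv.2.1
  have hzva : (z * v) • a = a := by rw [mul_smul, hva, T_smul_self hC hz]
  have hn := (card_omega hC hvv hv1 hva hb hv.2.2).1 z hz
  rw [(invol_facts hC hexp hvv hv1 hva hb hv.2.2).1, T_central hC hz hv.1 hva] at hn
  have h3 := card_fixed_ne hC hzva
  obtain ⟨γ, hγ, hT⟩ := exists_card_T hC
  have := Nat.two_pow_pos γ
  obtain ⟨⟨c, hca, hc⟩⟩ :=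
    (Finite.card_pos_iff (α := {c : Ω // c ≠ a ∧ (z * v) • c = c})).mp (by omega)
  obtain ⟨s, hs, rfl⟩ := hC.utrans b c hb hca
  refine ⟨s, ?_, hc⟩
  have hzv : z * v ∈ N1 hC b := ⟨z, hz, v, hv, rfl⟩
  have hr : s⁻¹ * (z * v) * s ∈ R hC a b := by
    refine ⟨?_, ?_, ?_⟩
    · have := isTwo_conj (isTwo_of_mem hC hexp (N1_mem_U hC hzv)) s⁻¹
      rwa [inv_inv] at this
    · rw [mul_smul, mul_smul, show s • a = a from hC.le hs, hzva, inv_smul_eq_iff,
        show s • a = a from hC.le hs]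
    · rw [mul_smul, mul_smul, hc, inv_smul_smul]
  refine mem_P_of_conj hC hexp hb hr (fun h => ?_) hs (by
    rw [show s * (s⁻¹ * (z * v) * s) * s⁻¹ = z * v by group]; exact hzv)
  have h1 : z * v = 1 := by
    calc z * v = s * (s⁻¹ * (z * v) * s) * s⁻¹ := by group
      _ = 1 := by rw [h, mul_one, mul_inv_cancel]
  have hzb : z • b = b := by
    conv_lhs => rw [← hv.2.2]
    rw [smul_smul, h1, one_smul]
  exact hv1 (by rw [T_inf_R hC hb hz hzb, one_mul] at h1; exact h1)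

theorem exists_T_of_mem_P (hexp : SplitBender.SetupExists.{u}) {b : Ω} (hb : b ≠ a) {v : G}
    (hv : v ∈ R hC a b) {s : G} (hs : s ∈ P hC b) :
    ∃ r ∈ R hC a b, ∃ z ∈ T hC a, s * r * s⁻¹ = z * v := by
  haveI := finite_omega hC
  choose z hz r' hr' he using fun r : R hC a b => conj_N1_of_mem_P hC hs (R_le_N1 hC b r.2)
  have hsb : s • b ≠ a := fun h => hb (smul_left_cancel s (h.trans (hC.le hs.1).symm))
  let f : R hC a b → R hC a b := fun r => ⟨r' r, hr' r⟩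
  have hf : Function.Injective f := by
    intro r₁ r₂ e
    have e' : r' r₁ = r' r₂ := congrArg Subtype.val e
    have h1 : s * ((r₁ : G) * r₂) * s⁻¹ = z r₁ * z r₂ := by
      rw [← conj_mul, he r₁, he r₂, e']
      calc z r₁ * r' r₂ * (z r₂ * r' r₂) = z r₁ * (r' r₂ * z r₂) * r' r₂ := by group
        _ = z r₁ * z r₂ * (r' r₂ * r' r₂) := by
            rw [T_central hC (hz r₂) (hr' r₂).1 (hr' r₂).2.1]; group
        _ = z r₁ * z r₂ := by rw [R_sq hC hexp hb _ (hr' r₂), mul_one]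
    have h2 := T_inf_R hC hsb (mul_mem (hz r₁) (hz r₂)) (by
      rw [← h1, mul_smul _ s⁻¹, inv_smul_smul, mul_smul s, (mul_mem r₁.2 r₂.2 : _ ∈ R hC a b).2.2])
    rw [← h1, conj_eq_one_iff] at h2
    exact Subtype.ext ((eq_inv_of_mul_eq_one_left h2).trans
      (inv_eq_of_mul_eq_one_right (R_sq hC hexp hb r₂ r₂.2)))
  obtain ⟨r, hr⟩ := Finite.surjective_of_injective hf ⟨v, hv⟩
  exact ⟨r, r.2, z r, hz r, by rw [he r, show r' r = v from congrArg Subtype.val hr]⟩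

/-- Two elements of `U` moving `b` into the same line differ by an element of `T R`. -/
theorem same_line (hexp : SplitBender.SetupExists.{u}) {b : Ω} (hb : b ≠ a) {v : G}
    (hv : v ∈ R hC a b) (hv1 : v ≠ 1) {z : G} (hz : z ∈ T hC a) {s s' : G} (hs : s ∈ U) (hs' : s' ∈ U)
    (h : (z * v) • s • b = s • b) (h' : (z * v) • s' • b = s' • b) : s⁻¹ * s' ∈ N1 hC b := by
  have hsa : s • a = a := hC.le hs
  have hs'a : s' • a = a := hC.le hs'
  have hne : ∀ {g : G}, g • a = a → g • b ≠ a := fun {g} hg e =>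
    hb (smul_left_cancel g (e.trans hg.symm))
  have hzv1 : z * v ≠ 1 := fun e => hv1 (by
    have hzb : z • b = b := by
      conv_lhs => rw [← hv.2.2]
      rw [smul_smul, e, one_smul]
    rw [T_inf_R hC hb hz hzb, one_mul] at e
    exact e)
  have hsq : z * v * (z * v) = 1 := by
    calc z * v * (z * v) = z * (v * z) * v := by group
      _ = (z * z) * (v * v) := by rw [T_central hC hz hv.1 hv.2.1]; group
      _ = 1 := by rw [sq_T hC hz, R_sq hC hexp hb v hv, one_mul]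
  obtain ⟨-, -, htr, -⟩ := invol_facts hC hexp hsq hzv1
    (by rw [mul_smul, hv.2.1, T_smul_self hC hz]) (hne hsa) h
  obtain ⟨w, hw, hwb⟩ := htr _ (hne hs'a) h'
  refine ⟨w, hw, w⁻¹ * (s⁻¹ * s'), ⟨isTwo_of_mem hC hexp
    (mul_mem (inv_mem (T_mem_U hC hw)) (mul_mem (inv_mem hs) hs')), ?_, ?_⟩, by group⟩
  · rw [mul_smul, mul_smul, hs'a, inv_smul_eq_iff.mpr hsa.symm, inv_smul_eq_iff, T_smul_self hC hw]
  · rw [mul_smul, mul_smul, ← hwb, smul_smul s⁻¹, T_comm_U hC hexp hw (inv_mem hs), mul_smul,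
      inv_smul_smul, inv_smul_smul]

theorem IsE.conj_N1 {b : Ω} {y : G} (hy : IsE hC b y) {n : G} (hn : n ∈ N1 hC b) :
    y * n * y⁻¹ ∈ N1 hC b := by
  obtain ⟨z, hz, r, hr, rfl⟩ := hn
  refine ⟨_, conj_mem_T hC hy.1 hz, r, hr, ?_⟩
  calc y * (z * r) * y⁻¹ = y * z * y⁻¹ * (y * r * y⁻¹) := by group
    _ = y * z * y⁻¹ * r := by rw [hy.2.2 r hr, mul_inv_cancel_right]

theorem IsE.conj_U {b : Ω} {y : G} (hy : IsE hC b y) {s : G} (hs : s ∈ U) : y * s * y⁻¹ ∈ U :=
  hC.norm y hy.1 s hs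

theorem IsE.conj_P (hexp : SplitBender.SetupExists.{u}) {b : Ω} {y : G} (hy : IsE hC b y) {s : G}
    (hs : s ∈ P hC b) : y * s * y⁻¹ ∈ P hC b := by
  refine mem_P_of_forall hC hexp (hy.conj_U hC hs.1) fun r hr => ?_
  have h2 : y⁻¹ * r * y = r := by rw [mul_assoc, ← hy.2.2 r hr, inv_mul_cancel_left]
  rw [show y * s * y⁻¹ * r * (y * s * y⁻¹)⁻¹ = y * (s * (y⁻¹ * r * y) * s⁻¹) * y⁻¹ by group, h2]
  exact hy.conj_N1 hC (conj_N1_of_mem_P hC hs (R_le_N1 hC b hr))

/-- Any two elements of the normaliser outside `T R` are related by some `y`. -/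
theorem exists_isE_map (hexp : SplitBender.SetupExists.{u}) {b : Ω} (hb : b ≠ a) {v : G}
    (hv : v ∈ R hC a b) (hv1 : v ≠ 1) {s s' : G} (hs : s ∈ P hC b) (hsn : s ∉ N1 hC b)
    (hs' : s' ∈ P hC b) (hs'n : s' ∉ N1 hC b) :
    ∃ y : G, IsE hC b y ∧ (y * s * y⁻¹)⁻¹ * s' ∈ N1 hC b := by
  have key : ∀ {s : G}, s ∈ P hC b → s ∉ N1 hC b →
      ∃ z, IsC z a ∧ (z * v) • s • b = s • b := by
    intro s hs hsn
    obtain ⟨r, hr, z, hz, e⟩ := exists_T_of_mem_P hC hexp hb hv hs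
    have hfix : (z * v) • s • b = s • b := by rw [← e, mul_smul, mul_smul, inv_smul_smul, hr.2.2]
    rcases hz with h1 | h1
    · exfalso
      apply hsn
      have h2 : (1 * v) • (1 : G) • b = (1 : G) • b := by rw [one_smul, one_mul, hv.2.2]
      rw [h1] at hfix
      have := same_line hC hexp hb hv hv1 (one_mem _) (one_mem U) hs.1 h2 hfix
      rwa [inv_one, one_mul] at this
    · exact ⟨z, h1, hfix⟩
  obtain ⟨z, hz, hzf⟩ := key hs hsn
  obtain ⟨z', hz', hz'f⟩ := key hs' hs'n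
  obtain ⟨y, hy, hyz⟩ := isE_trans hC hb hz hz'
  refine ⟨y, hy, same_line hC hexp hb hv hv1 (Or.inr hz') (hy.conj_U hC hs.1) hs'.1 ?_ hz'f⟩
  have h1 : z' * v = y * (z * v) * y⁻¹ := by
    rw [← hyz]
    calc y * z * y⁻¹ * v = y * z * y⁻¹ * (v * y) * y⁻¹ := by group
      _ = y * (z * v) * y⁻¹ := by rw [← hy.2.2 v hv]; group
  have h2 : (y * s * y⁻¹) • b = y • s • b := by
    rw [mul_smul, mul_smul, inv_smul_eq_iff.mpr hy.2.1.symm]
  rw [h1, h2, mul_smul, mul_smul, inv_smul_smul, hzf]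

/-- The normaliser of `T R` centralises it modulo `T`. -/
theorem P_comm (hexp : SplitBender.SetupExists.{u}) {b : Ω} (hb : b ≠ a) {s : G} (hs : s ∈ P hC b)
    {r : G} (hr : r ∈ R hC a b) : ∃ z ∈ T hC a, s * r * s⁻¹ = z * r := by
  by_cases hr1 : r = 1
  · exact ⟨1, one_mem _, by rw [hr1, mul_one, mul_one, mul_inv_cancel]⟩
  have hN : ∀ {n : G}, n ∈ N1 hC b → n * r * n⁻¹ = r := fun {n} hn => by
    rw [N1_comm hC hexp hb hn (R_le_N1 hC b hr), mul_inv_cancel_right]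
  by_cases hsn : s ∈ N1 hC b
  · exact ⟨1, one_mem _, by rw [one_mul, hN hsn]⟩
  -- all elements outside `T R` induce the same map
  have hsame : ∀ {s s' : G}, s ∈ P hC b → s ∉ N1 hC b → s' ∈ P hC b → s' ∉ N1 hC b →
      ∀ r₁ ∈ R hC a b, ∀ r₂ ∈ R hC a b, (∃ z ∈ T hC a, s * r₁ * s⁻¹ = z * r₂) →
        ∃ z ∈ T hC a, s' * r₁ * s'⁻¹ = z * r₂ := by
    rintro s s' hs hsn hs' hs'n r₁ hr₁ r₂ hr₂ ⟨z, hz, e⟩
    obtain ⟨y, hy, hn⟩ := exists_isE_map hC hexp hb hr hr1 hs hsn hs' hs'n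
    set n := (y * s * y⁻¹)⁻¹ * s' with hndef
    refine ⟨_, conj_mem_T hC hy.1 hz, ?_⟩
    have h1 : n * r₁ * n⁻¹ = r₁ := by
      rw [N1_comm hC hexp hb hn (R_le_N1 hC b hr₁), mul_inv_cancel_right]
    have h2 : y⁻¹ * r₁ * y = r₁ := by rw [mul_assoc, ← hy.2.2 r₁ hr₁, inv_mul_cancel_left]
    calc s' * r₁ * s'⁻¹ = y * s * (y⁻¹ * (n * r₁ * n⁻¹) * y) * s⁻¹ * y⁻¹ := by rw [hndef]; group
      _ = y * (s * r₁ * s⁻¹) * y⁻¹ := by rw [h1, h2]; group
      _ = y * z * y⁻¹ * (y * r₂ * y⁻¹) := by rw [e]; group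
      _ = y * z * y⁻¹ * r₂ := by rw [hy.2.2 r₂ hr₂, mul_inv_cancel_right]
  -- a second coset
  obtain ⟨r₀, hr₀, z₀, hz₀, e₀⟩ := exists_T_of_mem_P hC hexp hb hr hs
  have hfix₀ : (z₀ * r) • s • b = s • b := by
    rw [← e₀, mul_smul, mul_smul, inv_smul_smul, hr₀.2.2]
  obtain ⟨w, hw, hwz⟩ : ∃ w, IsC w a ∧ w ≠ z₀ := by
    by_contra h
    push Not at h
    have h3 := three_le_card_C hC
    haveI : Subsingleton {z : G // IsC z a} :=
      ⟨fun x y => Subtype.ext ((h _ x.2).trans (h _ y.2).symm)⟩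
    have := Finite.card_le_one_iff_subsingleton.mpr (inferInstance : Subsingleton {z : G // IsC z a})
    omega
  obtain ⟨s', hs', hfix'⟩ := exists_mem_P hC hexp hb hr hr1 (Or.inr hw)
  have huniq : ∀ {z z' : G}, z ∈ T hC a → z' ∈ T hC a → ∀ {t : G}, t ∈ U →
      (z * r) • t • b = t • b → (z' * r) • t • b = t • b → z = z' := by
    intro z z' hz hz' t ht h h'
    refine T_smul_inj hC hz hz' (c := r • t • b) ?_ ?_
    · exact fun e => hb (smul_left_cancel t ((smul_left_cancel r (e.trans hr.2.1.symm)).trans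
        (show t • a = a from hC.le ht).symm))
    · rw [smul_smul z, h, smul_smul z', h']
  have hs'n : s' ∉ N1 hC b := by
    intro hn
    refine hw.1 (huniq (Or.inr hw) (one_mem _) hs'.1 hfix' ?_)
    rw [one_mul, smul_smul, ← N1_comm hC hexp hb hn (R_le_N1 hC b hr), mul_smul, hr.2.2]
  have hdn : s⁻¹ * s' ∉ N1 hC b := by
    intro hn
    refine hwz (huniq (Or.inr hw) hz₀ hs'.1 hfix' ?_)
    have hc : Commute (s⁻¹ * s') r₀ := N1_comm hC hexp hb hn (R_le_N1 hC b hr₀)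
    have : z₀ * r = s' * r₀ * s'⁻¹ := by
      rw [← e₀]
      calc s * r₀ * s⁻¹ = s * ((s⁻¹ * s') * r₀ * (s⁻¹ * s')⁻¹) * s⁻¹ := by
            rw [hc.eq, mul_inv_cancel_right]
        _ = s' * r₀ * s'⁻¹ := by group
    rw [this, mul_smul, mul_smul, inv_smul_smul, hr₀.2.2]
  have h1 := hsame hs hsn hs' hs'n r₀ hr₀ r hr ⟨z₀, hz₀, e₀⟩
  obtain ⟨z'', hz'', e''⟩ := hsame hs hsn (mul_mem (inv_mem hs) hs') hdn r₀ hr₀ r hr ⟨z₀, hz₀, e₀⟩
  obtain ⟨z', hz', e'⟩ := h1
  refine ⟨z''⁻¹ * z', mul_mem (inv_mem hz'') hz', ?_⟩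
  have h4 : s' * r₀ * s'⁻¹ = z'' * (s * r * s⁻¹) := by
    calc s' * r₀ * s'⁻¹ = s * (s⁻¹ * s' * r₀ * (s⁻¹ * s')⁻¹) * s⁻¹ := by group
      _ = s * z'' * r * s⁻¹ := by rw [e'']; group
      _ = z'' * (s * r * s⁻¹) := by rw [T_comm_U hC hexp hz'' hs.1]; group
  rw [e'] at h4
  rw [mul_assoc z''⁻¹, h4, inv_mul_cancel_left]

end CfsgLib.RankOne.StrongSplit
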